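/-
The degree equations for few Sylow subgroups (namespace `Cfsg.Agent.BrauerFewSylow`).

Main results: `no_F`, `plus_arith`, `minus_arith`, `exc_neg_arith`, `exc_pos_arith`.
-/
import Mathlib.Data.Nat.ModEq
import Mathlib.Tactic.Ring
import Mathlib.Tactic.Linarith
import Mathlib.Tactic.LinearCombination

set_option autoImplicit false

namespace Cfsg.Agent.BrauerFewSylow

/-- The values `(h u p + u ^ 2 + u + h) / (u + 1)` are not below `(p + 3) / 2`. -/
theorem no_F {p e t n u a : ℤ} (hte : t * e = p - 1) (ht : 1 ≤ t) (he : 1 ≤ e)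
    (hu : 1 ≤ u) (ha : 1 ≤ a) (hn : 2 * n ≤ p + 1) (h : e * n = a * u * p + e * u + a) : False := by
  have h1 : (p - 1) * (n - u - t * a * u) = t * a * (u + 1) := by
    linear_combination t * h + (u - n) * hte
  have hp1 : 1 ≤ p - 1 := by rw [← hte]; exact one_le_mul_of_one_le_of_one_le ht he
  have h2 : 1 ≤ n - u - t * a * u := by
    by_contra hc
    have h0 : (0 : ℤ) < t * a * (u + 1) := mul_pos (mul_pos (by omega) (by omega)) (by omega)
    have := mul_nonpos_of_nonneg_of_nonpos (by omega : (0 : ℤ) ≤ p - 1) (by omega : n - u - t * a * u ≤ 0)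
    omega
  have h3 : p - 1 ≤ t * a * (u + 1) := h1 ▸ le_mul_of_one_le_right (by omega) h2
  nlinarith [mul_nonneg (show (0 : ℤ) ≤ u - 1 by omega) (show (0 : ℤ) ≤ p - 1 by omega)]

variable {p e t n : ℕ}

theorem exists_quot_eq {k c : ℕ} (hc : c < p) (h : k % p = c) : ∃ a : ℕ, k = a * p + c :=
  ⟨k / p, by rw [← h, mul_comm]; exact (Nat.div_add_mod k p).symm⟩

/-- A degree congruent to one. -/
theorem plus_arith (hte : t * e = p - 1) (hp : 3 ≤ p) (hn : 2 * n ≤ p + 1) {u k : ℕ} (hu : 1 ≤ u)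
    (h : (u * p + 1) * k = e * (1 + n * p)) : u = n := by
  have he : 1 ≤ e := Nat.pos_of_ne_zero fun h0 => by rw [h0, mul_zero] at hte; omega
  have ht : 1 ≤ t := Nat.pos_of_ne_zero fun h0 => by rw [h0, zero_mul] at hte; omega
  have hep : e < p := by
    have : e ≤ t * e := Nat.le_mul_of_pos_left _ ht
    omega
  have hk : k % p = e := by
    have h2 := congrArg (· % p) h
    simp only [add_mul, mul_add, mul_one, one_mul] at h2
    rw [show u * p * k + k = k + p * (u * k) by ring, show e + e * (n * p) = e + p * (e * n) by ring,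
      Nat.add_mul_mod_self_left, Nat.add_mul_mod_self_left, Nat.mod_eq_of_lt hep] at h2
    exact h2
  obtain ⟨a, rfl⟩ := exists_quot_eq hep hk
  have hte' : (t : ℤ) * e = (p : ℤ) - 1 := by
    rw [← Nat.cast_mul, hte, Nat.cast_sub (by omega), Nat.cast_one]
  have hz : ((u : ℤ) * p + 1) * ((a : ℤ) * p + e) = (e : ℤ) * (1 + n * p) := by exact_mod_cast h
  have hz' : (e : ℤ) * n = (a : ℤ) * u * p + e * u + a := by
    apply mul_right_cancel₀ (show (p : ℤ) ≠ 0 by omega)
    linear_combination -hz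
  rcases Nat.eq_zero_or_pos a with rfl | ha
  · have : (e : ℤ) * n = e * u := by rw [hz']; push_cast; ring
    exact_mod_cast (mul_left_cancel₀ (show (e : ℤ) ≠ 0 by omega) this).symm
  · exact (no_F hte' (by exact_mod_cast ht) (by exact_mod_cast he) (by exact_mod_cast hu) (by exact_mod_cast ha)
      (by exact_mod_cast hn) hz').elim

/-- A degree congruent to minus one. -/
theorem minus_arith (hte : t * e = p - 1) (hp : 3 ≤ p) (hn : 2 * n ≤ p + 1) {u k : ℕ} (hu : 1 ≤ u)
    (h : (u * p - 1) * k = e * (1 + n * p)) (hsq : (u * p - 1) * (u * p - 1) < e * p * (1 + n * p)) : u = 1 := by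
  by_contra hu1
  have he : 1 ≤ e := Nat.pos_of_ne_zero fun h0 => by rw [h0, mul_zero] at hte; omega
  have ht : 1 ≤ t := Nat.pos_of_ne_zero fun h0 => by rw [h0, zero_mul] at hte; omega
  have hep : e < p := by
    have : e ≤ t * e := Nat.le_mul_of_pos_left _ ht
    omega
  have hup : 1 ≤ u * p := Nat.mul_pos hu (by omega)
  have hz : ((u : ℤ) * p - 1) * (k : ℤ) = (e : ℤ) * (1 + n * p) := by
    have := congrArg (Nat.cast : ℕ → ℤ) h
    push_cast [Nat.cast_sub hup] at this
    exact this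
  have hdvd : (p : ℤ) ∣ (k : ℤ) + e := ⟨(u : ℤ) * k - e * n, by linear_combination -hz⟩
  obtain ⟨a, ha⟩ := hdvd
  have hk0 : k ≠ 0 := fun h0 => by rw [h0, mul_zero] at h; have := Nat.mul_pos he (show 0 < 1 + n * p by omega); omega
  have ha1 : 1 ≤ a := by nlinarith
  have hte' : (t : ℤ) * e = (p : ℤ) - 1 := by
    rw [← Nat.cast_mul, hte, Nat.cast_sub (by omega), Nat.cast_one]
  have hz' : (e : ℤ) * ((n : ℤ) + u) = a * ((u : ℤ) * p - 1) := by
    apply mul_right_cancel₀ (show (p : ℤ) ≠ 0 by omega)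
    linear_combination -hz + ((u : ℤ) * p - 1) * ha
  have h1 : (t : ℤ) * a * ((u : ℤ) - 1) = ((p : ℤ) - 1) * ((n : ℤ) + u - t * a * u) := by
    linear_combination -(t : ℤ) * hz' + ((n : ℤ) + u) * hte'
  have h2 : 1 ≤ (n : ℤ) + u - t * a * u := by
    by_contra hc
    have h0 : (0 : ℤ) < (t : ℤ) * a * ((u : ℤ) - 1) := mul_pos (mul_pos (by omega) (by omega)) (by omega)
    nlinarith
  have h3 : (p : ℤ) - 1 ≤ (t : ℤ) * a * ((u : ℤ) - 1) := by nlinarith
  rcases (show (t : ℤ) * a = 1 ∨ 2 ≤ (t : ℤ) * a by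
    have : (1 : ℤ) ≤ (t : ℤ) * a := by nlinarith
    omega) with hta | hta
  · have ht1 : (t : ℤ) = 1 := by nlinarith
    have ha' : a = 1 := by rw [ht1, one_mul] at hta; exact hta
    rw [ht1, one_mul] at hte'
    have hk : k = 1 := by
      rw [ha', mul_one] at ha
      omega
    rw [hk, mul_one] at h
    have h4 : (u * p - 1) * (u * p - 1) < (u * p - 1) * p := by
      calc (u * p - 1) * (u * p - 1) < e * p * (1 + n * p) := hsq
        _ = (u * p - 1) * p := by rw [h]; ring
    have h5 := Nat.lt_of_mul_lt_mul_left h4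
    have h6 : 2 * p ≤ u * p := Nat.mul_le_mul_right p (by omega)
    omega
  · nlinarith [mul_nonneg (show (0 : ℤ) ≤ (t : ℤ) * a - 2 by omega) (show (0 : ℤ) ≤ (u : ℤ) - 1 by omega)]

/-- The degree of an exceptional character with negative sign. -/
theorem exc_neg_arith (hte : t * e = p - 1) (hp : 3 ≤ p) (hn : 2 * n ≤ p + 1) {y w k : ℕ}
    (hy : y + e = w * p) (hy2 : 2 ≤ y) (h : y * k = e * (1 + n * p)) : n + 1 = w * t := by
  have he : 1 ≤ e := Nat.pos_of_ne_zero fun h0 => by rw [h0, mul_zero] at hte; omega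
  have ht : 1 ≤ t := Nat.pos_of_ne_zero fun h0 => by rw [h0, zero_mul] at hte; omega
  have hw : 1 ≤ w := Nat.pos_of_ne_zero fun h0 => by rw [h0, zero_mul] at hy; omega
  have hep : e < p := by
    have : e ≤ t * e := Nat.le_mul_of_pos_left _ ht
    omega
  have hz : ((w : ℤ) * p - e) * (k : ℤ) = (e : ℤ) * (1 + n * p) := by
    rw [show (w : ℤ) * p - e = (y : ℤ) by have : ((y + e : ℕ) : ℤ) = ((w * p : ℕ) : ℤ) := by rw [hy]
                                          push_cast at this; linarith]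
    exact_mod_cast h
  have hdvd : (p : ℤ) ∣ (e : ℤ) * ((k : ℤ) + 1) := ⟨(w : ℤ) * k - e * n, by linear_combination -hz⟩
  have hte' : (t : ℤ) * e = (p : ℤ) - 1 := by
    rw [← Nat.cast_mul, hte, Nat.cast_sub (by omega), Nat.cast_one]
  obtain ⟨a, ha⟩ : (p : ℤ) ∣ (k : ℤ) + 1 := by
    obtain ⟨d, hd⟩ := hdvd
    exact ⟨(k : ℤ) + 1 - t * d, by linear_combination ((k : ℤ) + 1) * hte' - (t : ℤ) * hd⟩
  have ha1 : 1 ≤ a := by nlinarith
  have hz' : (e : ℤ) * ((n : ℤ) + a) = (w : ℤ) * ((p : ℤ) * a - 1) := by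
    apply mul_right_cancel₀ (show (p : ℤ) ≠ 0 by omega)
    linear_combination -hz + ((w : ℤ) * p - e) * ha
  have h1 : (t : ℤ) * w * (a - 1) = ((p : ℤ) - 1) * ((n : ℤ) + a - t * w * a) := by
    linear_combination -(t : ℤ) * hz' + ((n : ℤ) + a) * hte'
  rcases (show a = 1 ∨ 2 ≤ a by omega) with rfl | ha2
  · rw [sub_self, mul_zero] at h1
    rcases mul_eq_zero.mp h1.symm with h0 | h0
    · omega
    · have : ((n + 1 : ℕ) : ℤ) = ((w * t : ℕ) : ℤ) := by push_cast; linarith
      exact_mod_cast this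
  · exfalso
    have h2 : 1 ≤ (n : ℤ) + a - t * w * a := by
      by_contra hc
      have h0 : (0 : ℤ) < (t : ℤ) * w * (a - 1) := mul_pos (mul_pos (by omega) (by omega)) (by omega)
      nlinarith
    have h3 : (p : ℤ) - 1 ≤ (t : ℤ) * w * (a - 1) := by nlinarith
    rcases (show (t : ℤ) * w = 1 ∨ 2 ≤ (t : ℤ) * w by
      have : (1 : ℤ) ≤ (t : ℤ) * w := by nlinarith
      omega) with htw | htw
    · have htw' : t * w = 1 := by exact_mod_cast htw
      have ht1 : t = 1 := Nat.eq_one_of_mul_eq_one_right htw'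
      have hw1 : w = 1 := Nat.eq_one_of_mul_eq_one_left htw'
      rw [ht1, one_mul] at hte
      rw [hw1, one_mul] at hy
      omega
    · nlinarith [mul_nonneg (show (0 : ℤ) ≤ (t : ℤ) * w - 2 by omega) (show (0 : ℤ) ≤ a - 1 by omega)]

/-- The degree of an exceptional character with positive sign. -/
theorem exc_pos_arith (hte : t * e = p - 1) (hp : 3 ≤ p) (hn : 2 * n ≤ p + 1) {w k : ℕ}
    (h : (w * p + e) * k = e * (1 + n * p)) (hsq : (w * p + e) * (w * p + e) < e * p * (1 + n * p)) : w = 0 := by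
  by_contra hw
  have he : 1 ≤ e := Nat.pos_of_ne_zero fun h0 => by rw [h0, mul_zero] at hte; omega
  have ht : 1 ≤ t := Nat.pos_of_ne_zero fun h0 => by rw [h0, zero_mul] at hte; omega
  have hz : ((w : ℤ) * p + e) * (k : ℤ) = (e : ℤ) * (1 + n * p) := by exact_mod_cast h
  have hte' : (t : ℤ) * e = (p : ℤ) - 1 := by
    rw [← Nat.cast_mul, hte, Nat.cast_sub (by omega), Nat.cast_one]
  obtain ⟨d, hd⟩ : (p : ℤ) ∣ (e : ℤ) * ((k : ℤ) - 1) := ⟨(e : ℤ) * n - w * k, by linear_combination hz⟩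
  obtain ⟨a, ha⟩ : (p : ℤ) ∣ (k : ℤ) - 1 :=
    ⟨(k : ℤ) - 1 - t * d, by linear_combination ((k : ℤ) - 1) * hte' - (t : ℤ) * hd⟩
  have hz' : (e : ℤ) * n = (w : ℤ) * a * p + e * a + w := by
    apply mul_right_cancel₀ (show (p : ℤ) ≠ 0 by omega)
    linear_combination -hz + ((w : ℤ) * p + e) * ha
  have hk0 : k ≠ 0 := fun h0 => by rw [h0, mul_zero] at h; have := Nat.mul_pos he (show 0 < 1 + n * p by omega); omega
  rcases (show a = 0 ∨ 1 ≤ a by
    have : 0 ≤ a := by nlinarith
    omega) with rfl | ha1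
  · have hk : k = 1 := by omega
    rw [hk, mul_one] at h
    have h4 : (w * p + e) * (w * p + e) < (w * p + e) * p := by
      calc (w * p + e) * (w * p + e) < e * p * (1 + n * p) := hsq
        _ = (w * p + e) * p := by rw [h]; ring
    have h5 := Nat.lt_of_mul_lt_mul_left h4
    have h6 : p ≤ w * p := Nat.le_mul_of_pos_left _ (by omega)
    omega
  · exact no_F (p := (p : ℤ)) (n := (n : ℤ)) (u := a) (a := (w : ℤ)) hte' (by exact_mod_cast ht) (by exact_mod_cast he)
      ha1 (by omega) (by exact_mod_cast hn) (by linear_combination hz')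

end Cfsg.Agent.BrauerFewSylow
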