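/-
Few Sylow subgroups: a self centralizing element of prime order (namespace `Cfsg.Agent.BrauerFewSylow`).

Main results: `charDegree_eq_sum'`, `sum_apply_pw`, `excess`, `excess_eq`, `Data`, `exists_data`.
-/
import Cfsg.Agent.Lib.CyclicDefect.Mult
import Cfsg.Agent.Lib.CharApp.Burnside
import Cfsg.Agent.Lib.Codegree.Basic
import Cfsg.Agent.Lib.BrauerFewSylow.Arith

set_option autoImplicit false
set_option linter.unusedSectionVars false
set_option linter.style.haveILetI false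

open scoped ComplexConjugate

namespace Cfsg.Agent.BrauerFewSylow

open Cfsg Cfsg.Agent.Blocks Cfsg.Agent.CyclicDefect

variable {G : Type*} [Group G] [Finite G] {p : ℕ} [Fact p.Prime] {x : G} {L : Subgroup G}

/-- The principal character of `G`. -/
noncomputable abbrev oneG (G : Type*) [Group G] : IrrCharacter G := ⟨1, Char.isIrrCharacter_one⟩

/-- The hypotheses on the local structure. -/
structure Core (p : ℕ) (x : G) (L : Subgroup G) (e t : ℕ) : Prop where
  hS : Setting p x L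
  hK : Subsingleton (K x L)
  hp3 : 3 ≤ p
  he : Nat.card L = e
  hte : t * e = p - 1
  hlin : ∀ χ : IrrCharacter G, charDegree (χ : G → ℂ) = 1 → χ = oneG G

/-- The hypotheses on the number `1 + n * p` of Sylow subgroups. -/
structure Ctx (p : ℕ) (x : G) (L : Subgroup G) (e t n : ℕ) : Prop extends Core p x L e t where
  hcard : Nat.card G = e * p * (1 + n * p)
  hn : 2 * n ≤ p + 1
  hn1 : 1 ≤ n

section Core

variable {e t : ℕ} (h : Core p x L e t)
include h

theorem card_K_eq : Nat.card (K x L) = 1 := Nat.card_eq_one_iff_unique.mpr ⟨h.hK, ⟨1⟩⟩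

theorem card_U_eq : Nat.card (U h.hS (oneK x L : K x L → ℂ)) = e := by
  have h1 := (K x L).card_mul_index
  rw [card_K_eq h, one_mul, h.he] at h1
  rw [card_U_one h.hS, h1]

theorem irr_K_eq' (φ : IrrCharacter (K x L)) : φ = oneK x L := by
  have := Fintype.ofFinite (K x L)
  haveI := h.hK
  refine Subtype.ext (funext fun k => ?_)
  rw [Subsingleton.elim k 1, Char.apply_one_eq_one_of_comm (fun a b => Subsingleton.elim _ _) φ]
  rfl

theorem dec_one_eq' {f : G → ℂ} (i : ZMod p) : dec f (oneK x L : K x L → ℂ) i = f (pw x i) := by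
  have := Fintype.ofFinite (K x L)
  haveI := h.hK
  rw [dec_eq, classInner, card_K_eq h, Nat.cast_one, inv_one, one_mul, Fintype.sum_subsingleton _ 1]
  show f (pw x i * _) * conj (1 : ℂ) = _
  rw [map_one, mul_one, OneMemClass.coe_one, OneMemClass.coe_one, mul_one]

/-- The multiplicity of the character `j` of `⟨x⟩`. -/
noncomputable abbrev mN (χ : IrrCharacter G) (j : ZMod p) : ℕ := multN h.hS χ (oneK x L) j

/-- The multiplicity of the trivial character of `⟨x⟩`. -/
noncomputable abbrev m0 (χ : IrrCharacter G) : ℕ := multN h.hS χ (oneK x L) 0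

theorem charDegree_eq_sum' (χ : IrrCharacter G) : charDegree (χ : G → ℂ) = ∑ j : ZMod p, mN h χ j := by
  have := Fintype.ofFinite (IrrCharacter (K x L))
  rw [charDegree_eq_sum h.hS χ, Finset.sum_eq_single (oneK x L) (fun φ _ hφ => absurd (irr_K_eq' h φ) hφ)
    (fun h => absurd (Finset.mem_univ _) h),
    show charDegree ((oneK x L : IrrCharacter (K x L)) : K x L → ℂ) = 1 from
      Nat.cast_injective (R := ℂ) (by rw [charDegree_cast, Nat.cast_one]; rfl), one_mul]

theorem sum_apply_pw (χ : IrrCharacter G) :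
    ∑ i : ZMod p, (χ : G → ℂ) (pw x i) = (p : ℂ) * m0 h χ := by
  have h1 := multN_spec h.hS χ (oneK x L) 0
  rw [mult] at h1
  simp only [mul_zero, neg_zero, ζ_zero, one_mul, dec_one_eq' h] at h1
  rw [m0, ← h1, mul_inv_cancel_left₀ (Nat.cast_ne_zero.mpr h.hS.hp.ne_zero)]

theorem sum_norm_pw (χ : IrrCharacter G) :
    ∑ i : ZMod p, (χ : G → ℂ) (pw x i) * conj ((χ : G → ℂ) (pw x i)) = (p : ℂ) * ∑ j : ZMod p, (mN h χ j : ℂ) ^ 2 := by
  have h1 := sum_mult_sq (x := x) (L := L) (p := p) (χ : G → ℂ) (oneK x L : K x L → ℂ)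
  simp only [dec_one_eq' h, multN_spec h.hS, Complex.conj_natCast, ← pow_two] at h1
  rw [h1, mul_inv_cancel_left₀ (Nat.cast_ne_zero.mpr h.hS.hp.ne_zero)]

/-- The excess of trivial constituents on `⟨x⟩`. -/
noncomputable def excess (χ : IrrCharacter G) : ℤ := (p : ℤ) * m0 h χ - charDegree (χ : G → ℂ)

theorem excess_eq (χ : IrrCharacter G) :
    excess h χ = -∑ u : (ZMod p)ˣ, bInt h.hS χ (oneK x L) (u : ZMod p) := by
  rw [excess, sum_bInt_eq h.hS χ (oneK x L), charDegree_eq_sum' h]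
  ring

theorem bInt_oneG (u : (ZMod p)ˣ) : bInt h.hS (oneG G) (oneK x L) (u : ZMod p) = -1 := by
  have hm : ∀ j, multN h.hS (oneG G) (oneK x L) j = if j = 0 then 1 else 0 := by
    intro j
    apply Nat.cast_injective (R := ℂ)
    rw [← multN_spec h.hS, mult]
    have hd : ∀ i : ZMod p, dec (x := x) ((oneG G : IrrCharacter G) : G → ℂ) (oneK x L : K x L → ℂ) i = 1 := fun i => by
      rw [dec_one_eq' h]; rfl
    simp only [hd, mul_one]
    rw [Finset.sum_congr rfl (g := fun i => ζ (i * -j)) fun i _ => by rw [mul_neg], sum_ζ_mul]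
    simp only [neg_eq_zero]
    split_ifs <;> simp [h.hS.hp.ne_zero]
  rw [bInt_eq_sub, hm, hm, if_neg (Units.ne_zero u), if_pos rfl]
  norm_num

theorem deg_pos (χ : IrrCharacter G) : 0 < charDegree (χ : G → ℂ) :=
  Nat.pos_of_ne_zero fun h0 => irr_one_ne_zero χ (by rw [← charDegree_cast, h0, Nat.cast_zero])

theorem deg_ge_two {χ : IrrCharacter G} (hχ : χ ≠ oneG G) : 2 ≤ charDegree (χ : G → ℂ) := by
  have h1 := deg_pos h χ
  have h2 : charDegree (χ : G → ℂ) ≠ 1 := fun e => hχ (h.hlin χ e)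
  omega

theorem exists_cofactor_card {χ : IrrCharacter G} (hp : ¬ p ∣ charDegree (χ : G → ℂ)) {m : ℕ}
    (hm : Nat.card G = p * m) : charDegree (χ : G → ℂ) ∣ m := by
  have hd := Codegree.deg_dvd_card χ
  rw [hm] at hd
  exact ((h.hS.hp.coprime_iff_not_dvd.mpr hp).symm).dvd_of_dvd_mul_left hd

theorem e_pos : 1 ≤ e := Nat.pos_of_ne_zero fun h0 => by
  have := h.hte
  rw [h0, mul_zero] at this
  have := h.hp3
  omega

theorem t_pos : 1 ≤ t := Nat.pos_of_ne_zero fun h0 => by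
  have := h.hte
  rw [h0, zero_mul] at this
  have := h.hp3
  omega

theorem card_T : Nat.card ((ZMod p)ˣ ⧸ U h.hS (oneK x L : K x L → ℂ)) = t := by
  have h1 := card_units_eq h.hS (oneK x L : K x L → ℂ)
  rw [card_U_eq h, ← h.hte, mul_comm t e] at h1
  exact Nat.eq_of_mul_eq_mul_left (e_pos h) h1

open scoped Classical in
/-- The members of the principal block. -/
structure Data (M : Ideal AlgInt) where
  exc : (ZMod p)ˣ ⧸ U h.hS (oneK x L : K x L → ℂ) → IrrCharacter G
  ε : ℤ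
  δ : IrrCharacter G → ℤ
  inj : Function.Injective exc
  excB : ∀ c, exc c ∈ principalBlock M G
  hε : ε = 1 ∨ ε = -1
  excb : ∀ c (u : (ZMod p)ˣ), bInt h.hS (exc c) (oneK x L) (u : ZMod p) =
    if (u : (ZMod p)ˣ ⧸ U h.hS (oneK x L : K x L → ℂ)) = c then ε else 0
  cst : ∀ χ ∈ principalBlock M G, χ ∉ Set.range exc → (δ χ = 1 ∨ δ χ = -1) ∧
    ∀ u : (ZMod p)ˣ, bInt h.hS χ (oneK x L) (u : ZMod p) = δ χ
  oneB : oneG G ∈ principalBlock M G
  one_notin : oneG G ∉ Set.range exc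
  card : Nat.card (principalBlock M G : Set (IrrCharacter G)) = e + t
  rel : ∀ (F : Finset (IrrCharacter G)), (∀ χ, χ ∈ F ↔ χ ∈ principalBlock M G ∧ χ ∉ Set.range exc) →
    ∀ g : G, ¬ p ∣ orderOf g → ∀ c,
      ∑ χ ∈ F, (δ χ : ℂ) * (χ : G → ℂ) g + (ε : ℂ) * (exc c : G → ℂ) g = 0
  out : ∀ χ, χ ∉ principalBlock M G → ∀ u : (ZMod p)ˣ, bInt h.hS χ (oneK x L) (u : ZMod p) = 0

variable {M : Ideal AlgInt} (hM : IsPModular p M)
include hM

theorem exists_data : Nonempty (Data h M) := by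
  classical
  have := Fintype.ofFinite (IrrCharacter G)
  obtain ⟨hP, h1P⟩ := principal_isPBlock (G := G) hM
  have hl := lies_principal h.hS hM
  obtain ⟨hk, exc, ε, δ, hinj, hexcB, hε, hexc, hcst, hrel⟩ := block_structure h.hS hM hP hl
  rw [card_U_eq h, card_T h] at hk
  have hout : ∀ χ, χ ∉ principalBlock M G → ∀ u : (ZMod p)ˣ, bInt h.hS χ (oneK x L) (u : ZMod p) = 0 :=
    fun χ hχ u => by_contra fun hne => hχ (mem_of_bInt_ne_zero h.hS hM hP hl hne)
  have hrel' : ∀ (F : Finset (IrrCharacter G)), (∀ χ, χ ∈ F ↔ χ ∈ principalBlock M G ∧ χ ∉ Set.range exc) →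
      ∀ g : G, ¬ p ∣ orderOf g → ∀ c,
        ∑ χ ∈ F, (δ χ : ℂ) * (χ : G → ℂ) g + (ε : ℂ) * (exc c : G → ℂ) g = 0 := by
    intro F hF g hg c
    refine Eq.trans ?_ (hrel g hg c)
    congr 2
    ext χ
    simp [hF]
  by_cases hone : oneG G ∈ Set.range exc
  swap
  · exact ⟨⟨exc, ε, δ, hinj, hexcB, hε, hexc, hcst, h1P, hone, hk, hrel', hout⟩⟩
  obtain ⟨c₀, hc₀⟩ := hone
  have hε1 : ε = -1 := by
    have h1 := hexc c₀ c₀.out
    rw [hc₀, bInt_oneG h, if_pos (QuotientGroup.out_eq' c₀)] at h1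
    exact h1.symm
  have hall : ∀ c : (ZMod p)ˣ ⧸ U h.hS (oneK x L : K x L → ℂ), c = c₀ := by
    intro c
    by_contra hne
    have h1 := hexc c₀ c.out
    rw [hc₀, bInt_oneG h, if_neg (by rw [QuotientGroup.out_eq']; exact hne)] at h1
    omega
  -- replace the exceptional character by another member
  obtain ⟨χ₁, hχ₁, hχ₁ne⟩ : ∃ χ₁ ∈ principalBlock M G, χ₁ ≠ oneG G := by
    by_contra hcon
    push Not at hcon
    have h2 : Nat.card (principalBlock M G : Set (IrrCharacter G)) ≤ 1 :=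
      Finite.card_le_one_iff_subsingleton.mpr ⟨fun a b => Subtype.ext ((hcon _ a.2).trans (hcon _ b.2).symm)⟩
    have := e_pos h
    have := t_pos h
    omega
  have hχ₁r : χ₁ ∉ Set.range exc := by
    rintro ⟨c, rfl⟩
    rw [hall c] at hχ₁ne
    exact hχ₁ne hc₀
  obtain ⟨hδ₁, hrow₁⟩ := hcst χ₁ hχ₁ hχ₁r
  refine ⟨⟨fun _ => χ₁, δ χ₁, fun χ => if χ = oneG G then -1 else δ χ, fun a b _ => (hall a).trans (hall b).symm,
    fun _ => hχ₁, hδ₁, fun c u => by rw [hrow₁, if_pos ((hall _).trans (hall c).symm)], ?_, h1P, ?_, hk, ?_, hout⟩⟩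
  · intro χ hχ hχr
    by_cases h1 : χ = oneG G
    · rw [if_pos h1, h1]
      exact ⟨Or.inr rfl, bInt_oneG h⟩
    · rw [if_neg h1]
      refine hcst χ hχ ?_
      rintro ⟨c, rfl⟩
      rw [hall c] at h1
      exact h1 hc₀
  · rintro ⟨c, hc⟩
    exact hχ₁ne hc
  · intro F hF g hg c
    set F' := Finset.univ.filter (fun χ => χ ∈ principalBlock M G ∧ χ ∉ Set.range exc) with hF'
    have h1 := hrel' F' (by simp [hF']) g hg c₀
    have hmem : χ₁ ∈ F' := Finset.mem_filter.mpr ⟨Finset.mem_univ _, hχ₁, hχ₁r⟩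
    have hFeq : F = insert (oneG G) (F'.erase χ₁) := by
      ext χ
      simp only [hF, Finset.mem_insert, Finset.mem_erase, hF', Finset.mem_filter, Finset.mem_univ, true_and, Set.mem_range]
      constructor
      · rintro ⟨hB, hne⟩
        by_cases h2 : χ = oneG G
        · exact Or.inl h2
        · refine Or.inr ⟨fun h3 => hne ⟨c, h3.symm⟩, hB, ?_⟩
          rintro ⟨c', rfl⟩
          rw [hall c'] at h2
          exact h2 hc₀
      · rintro (rfl | ⟨h2, hB, -⟩)
        · exact ⟨h1P, fun ⟨_, h3⟩ => hχ₁ne h3⟩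
        · exact ⟨hB, fun ⟨_, h3⟩ => h2 h3.symm⟩
    have hnot : oneG G ∉ F'.erase χ₁ := by
      simp only [hF', Finset.mem_erase, Finset.mem_filter, Set.mem_range]
      rintro ⟨-, -, -, h3⟩
      exact h3 ⟨c₀, hc₀⟩
    rw [hFeq, Finset.sum_insert hnot, if_pos rfl, Finset.sum_congr rfl (g := fun χ => (δ χ : ℂ) * (χ : G → ℂ) g)
      fun χ hχ => by rw [if_neg (fun h2 : χ = oneG G => hnot (h2 ▸ hχ))]]
    rw [← Finset.add_sum_erase _ _ hmem, hc₀, hε1] at h1
    push_cast at h1 ⊢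
    linear_combination h1

end Core

variable {e t n : ℕ} (h : Ctx p x L e t n)
include h

theorem sq_lt {χ : IrrCharacter G} (hχ : χ ≠ oneG G) :
    charDegree (χ : G → ℂ) * charDegree (χ : G → ℂ) < e * p * (1 + n * p) := by
  classical
  have := Fintype.ofFinite (IrrCharacter G)
  rw [← h.hcard]
  have hsum : (∑ ψ : IrrCharacter G, charDegree (ψ : G → ℂ) ^ 2) = Nat.card G := by
    apply Nat.cast_injective (R := ℂ)
    rw [← Char.sum_sq_degrees, Nat.cast_sum]
    exact Finset.sum_congr rfl fun ψ _ => by rw [Nat.cast_pow, charDegree_cast]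
  rw [← hsum, ← Finset.add_sum_erase _ _ (Finset.mem_univ χ), pow_two]
  refine Nat.lt_add_of_pos_right (lt_of_lt_of_le ?_
    (Finset.single_le_sum (f := fun ψ : IrrCharacter G => charDegree (ψ : G → ℂ) ^ 2) (fun _ _ => Nat.zero_le _)
      (Finset.mem_erase.mpr ⟨hχ.symm, Finset.mem_univ (oneG G)⟩)))
  exact pow_pos (deg_pos h.toCore _) 2

theorem exists_cofactor {χ : IrrCharacter G} (hp : ¬ p ∣ charDegree (χ : G → ℂ)) :
    ∃ k, charDegree (χ : G → ℂ) * k = e * (1 + n * p) := by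
  have hd := Codegree.deg_dvd_card χ
  rw [h.hcard, show e * p * (1 + n * p) = p * (e * (1 + n * p)) by ring] at hd
  obtain ⟨k, hk⟩ := ((h.hS.hp.coprime_iff_not_dvd.mpr hp).symm).dvd_of_dvd_mul_left hd
  exact ⟨k, hk.symm⟩

end Cfsg.Agent.BrauerFewSylow
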