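/-
Few Sylow subgroups: the principal block and the normalizer, without a bound on the number of Sylow subgroups
(namespace `Cfsg.Agent.BrauerFewSylow`).

Main results: `sum_excess`, `excess_cst`, `excess_exc`, `card_plus_minus`, `rel_apply`, `ell`, `exists_conj_eq`.
-/
import Cfsg.Agent.Lib.BrauerFewSylow.Setup
import Cfsg.Agent.Lib.Char.Induced

set_option autoImplicit false
set_option linter.unusedSectionVars false
set_option linter.style.haveILetI false

open scoped ComplexConjugate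

namespace Cfsg.Agent.BrauerFewSylow

open Cfsg Cfsg.Agent.Blocks Cfsg.Agent.CyclicDefect

variable {G : Type*} [Group G] [Finite G] {p : ℕ} [Fact p.Prime] {x : G} {L : Subgroup G}
  {e t : ℕ} (h : Core p x L e t)

/-- The normalizer of `⟨x⟩`. -/
abbrev Nr (x : G) : Subgroup G := Subgroup.normalizer (Subgroup.zpowers x : Set G)

include h

theorem alpha_injective : Function.Injective (CyclicDefect.alpha h.hS) := by
  haveI := h.hK
  rw [← MonoidHom.ker_eq_bot_iff, CyclicDefect.ker_alpha h.hS]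
  exact Subgroup.eq_bot_of_subsingleton _

theorem L_comm (a b : L) : a * b = b * a := alpha_injective h (by rw [map_mul, map_mul, mul_comm])

theorem card_Nr : Nat.card (Nr x) = e * p := by rw [h.hS.card_normalizer, h.he, mul_comm]

theorem eq_one_of_mem {l : G} (hl : l ∈ L) (hx : l ∈ Subgroup.zpowers x) : l = 1 := by
  have h1 : orderOf l ∣ Nat.card L := by
    have := orderOf_dvd_natCard (⟨l, hl⟩ : L)
    rwa [← Subgroup.orderOf_coe] at this
  have h2 : orderOf l ∣ p := by
    have := orderOf_dvd_natCard (⟨l, hx⟩ : Subgroup.zpowers x)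
    rwa [← Subgroup.orderOf_coe, Nat.card_zpowers, h.hS.hx] at this
  exact orderOf_eq_one_iff.mp (Nat.eq_one_of_dvd_coprimes h.hS.coprime_L h2 h1)

omit h in
instance : ((Subgroup.zpowers x).subgroupOf (Nr x)).Normal := Subgroup.normal_in_normalizer

/-- The complement as the quotient of the normalizer. -/
noncomputable def quotEquiv : L ≃* Nr x ⧸ (Subgroup.zpowers x).subgroupOf (Nr x) :=
  MulEquiv.ofBijective ((QuotientGroup.mk' _).comp (Subgroup.inclusion h.hS.hL)) ⟨by
    rw [← MonoidHom.ker_eq_bot_iff, eq_bot_iff]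
    intro l hl
    rw [MonoidHom.mem_ker, MonoidHom.comp_apply, QuotientGroup.mk'_apply, QuotientGroup.eq_one_iff,
      Subgroup.mem_subgroupOf] at hl
    rw [Subgroup.mem_bot]
    exact Subtype.ext (eq_one_of_mem h l.2 hl), by
    intro q
    obtain ⟨m, rfl⟩ := QuotientGroup.mk_surjective q
    obtain ⟨u, hu, l, hl, hm⟩ := h.hS.hgen _ m.2
    refine ⟨⟨l, hl⟩, ?_⟩
    show ((Subgroup.inclusion h.hS.hL ⟨l, hl⟩ : Nr x) : Nr x ⧸ (Subgroup.zpowers x).subgroupOf (Nr x)) = _
    rw [QuotientGroup.eq, Subgroup.mem_subgroupOf]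
    show l⁻¹ * (m : G) ∈ Subgroup.zpowers x
    rw [hm]
    have := (Subgroup.mem_normalizer_iff''.mp (h.hS.hL hl) u).mp hu
    rwa [mul_assoc] at this⟩

/-- The projection of the normalizer on the complement. -/
noncomputable def ell : Nr x →* L := (quotEquiv h).symm.toMonoidHom.comp (QuotientGroup.mk' _)

theorem ell_coe (l : L) : ell h (Subgroup.inclusion h.hS.hL l) = l :=
  (quotEquiv h).symm_apply_apply l

theorem ell_eq_one_iff (m : Nr x) : ell h m = 1 ↔ (m : G) ∈ Subgroup.zpowers x := by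
  show (quotEquiv h).symm (m : Nr x ⧸ (Subgroup.zpowers x).subgroupOf (Nr x)) = 1 ↔ _
  rw [MulEquiv.map_eq_one_iff, QuotientGroup.eq_one_iff, Subgroup.mem_subgroupOf]

theorem exists_pw_mul (m : Nr x) : ∃ i : ZMod p, (m : G) = pw x i * (ell h m : G) := by
  have h1 : ell h (m * (Subgroup.inclusion h.hS.hL (ell h m))⁻¹) = 1 := by
    rw [map_mul, map_inv, ell_coe h, mul_inv_cancel]
  obtain ⟨i, hi⟩ := h.hS.exists_pw ((ell_eq_one_iff h _).mp h1)
  exact ⟨i, mul_inv_eq_iff_eq_mul.mp hi⟩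

theorem ell_mul_pw (i : ZMod p) (l : L) :
    ell h ⟨pw x i * (l : G), Subgroup.mul_mem _ (Subgroup.le_normalizer (h.hS.pw_mem i)) (h.hS.hL l.2)⟩ = l := by
  rw [show (⟨pw x i * (l : G), _⟩ : Nr x) =
    ⟨pw x i, Subgroup.le_normalizer (h.hS.pw_mem i)⟩ * Subgroup.inclusion h.hS.hL l from rfl, map_mul,
    (ell_eq_one_iff h _).mpr (h.hS.pw_mem i), one_mul, ell_coe h]

/-- Outside `⟨x⟩` the normalizer consists of conjugates of the complement. -/
theorem exists_conj_eq {m : Nr x} (hm : ell h m ≠ 1) :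
    ∃ j : ZMod p, (m : G) = pw x j * (ell h m : G) * (pw x j)⁻¹ := by
  obtain ⟨i, hi⟩ := exists_pw_mul h m
  set l := ell h m
  set a : ZMod p := (CyclicDefect.alpha h.hS l : ZMod p) with ha
  have ha1 : (1 : ZMod p) - a ≠ 0 := by
    intro h0
    refine hm (alpha_injective h ?_)
    rw [map_one, Units.ext_iff, Units.val_one]
    exact (sub_eq_zero.mp h0).symm
  refine ⟨(1 - a)⁻¹ * i, ?_⟩
  have hneg : ((l : G) * pw x ((1 - a)⁻¹ * i) * (l : G)⁻¹) = pw x (a * ((1 - a)⁻¹ * i)) := CyclicDefect.alpha_spec h.hS l _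
  have hsplit : pw x i = pw x ((1 - a)⁻¹ * i) * (pw x (a * ((1 - a)⁻¹ * i)))⁻¹ := by
    rw [eq_mul_inv_iff_mul_eq, ← h.hS.pw_add]
    congr 1
    field_simp
    ring
  rw [hi, hsplit, ← hneg]
  group

theorem mem_zpowers_of_orderOf {m : G} (hm : m ∈ Nr x) (ho : orderOf m = p) : m ∈ Subgroup.zpowers x := by
  rw [← show ((⟨m, hm⟩ : Nr x) : G) = m from rfl, ← ell_eq_one_iff h, ← orderOf_eq_one_iff]
  refine Nat.eq_one_of_dvd_coprimes h.hS.coprime_L ?_ (orderOf_dvd_natCard _)
  exact (orderOf_map_dvd _ _).trans (dvd_of_eq ((Subgroup.orderOf_coe (⟨m, hm⟩ : Nr x)).symm.trans ho))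

theorem irr_L_hom (μ : IrrCharacter L) : ∃ f : L →* ℂ, ⇑f = (μ : L → ℂ) :=
  Char.exists_hom_of_degree_one (Char.IsIrrCharacter.isCharacter μ.2) (Char.apply_one_eq_one_of_comm (L_comm h) μ)

theorem irr_L_one (μ : IrrCharacter L) : (μ : L → ℂ) 1 = 1 := Char.apply_one_eq_one_of_comm (L_comm h) μ

/-- The principal character of the complement. -/
noncomputable abbrev oneL (L : Subgroup G) : IrrCharacter L := ⟨1, Char.isIrrCharacter_one⟩

open scoped Classical in
theorem sum_irr_L [Fintype (IrrCharacter L)] (l : L) :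
    ∑ μ : IrrCharacter L, (μ : L → ℂ) l = if l = 1 then (e : ℂ) else 0 := by
  haveI := Fintype.ofFinite L
  have h1 := Char.sum_degree_mul_apply (G := L) l
  rw [h.he] at h1
  rw [← h1]
  exact Finset.sum_congr rfl fun μ _ => by rw [irr_L_one h, one_mul]

/-- The excess is additive. -/
theorem sum_excess [Fintype (IrrCharacter G)] {f : G → ℂ} {m : IrrCharacter G → ℕ}
    (hf : f = ∑ χ : IrrCharacter G, (m χ : ℂ) • (χ : G → ℂ)) :
    (∑ i : ZMod p, f (pw x i)) - f 1 = ∑ χ : IrrCharacter G, (m χ : ℂ) * (excess h χ : ℂ) := by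
  subst hf
  simp only [Finset.sum_apply, Pi.smul_apply, smul_eq_mul]
  rw [Finset.sum_comm, ← Finset.sum_sub_distrib]
  refine Finset.sum_congr rfl fun χ _ => ?_
  rw [← Finset.mul_sum, sum_apply_pw h, excess, ← mul_sub, ← charDegree_cast]
  push_cast
  ring

variable {M : Ideal AlgInt} (d : Data h M)
include d

theorem excess_out {χ : IrrCharacter G} (hB : χ ∉ principalBlock M G) : excess h χ = 0 := by
  rw [excess_eq h, Finset.sum_eq_zero fun u _ => d.out χ hB u, neg_zero]

theorem excess_cst {χ : IrrCharacter G} (hB : χ ∈ principalBlock M G) (hr : χ ∉ Set.range d.exc) :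
    excess h χ = -(d.δ χ * ((p - 1 : ℕ) : ℤ)) := by
  rw [excess_eq h, sum_bInt_const h.hS (d.cst χ hB hr).2]

theorem excess_exc (c : (ZMod p)ˣ ⧸ U h.hS (oneK x L : K x L → ℂ)) :
    excess h (d.exc c) = -(d.ε * (e : ℤ)) := by
  classical
  rw [excess_eq h, sum_bInt_exc h.hS (d.excb c), card_U_eq h]

theorem excess_oneG : excess h (oneG G) = ((p - 1 : ℕ) : ℤ) := by
  rw [excess_eq h, sum_bInt_const h.hS (bInt_oneG h)]
  ring

theorem exc_ne_one (c : (ZMod p)ˣ ⧸ U h.hS (oneK x L : K x L → ℂ)) : d.exc c ≠ oneG G :=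
  fun h1 => d.one_notin ⟨c, h1⟩

theorem not_dvd_exc (c : (ZMod p)ˣ ⧸ U h.hS (oneK x L : K x L → ℂ)) :
    ¬ p ∣ charDegree (d.exc c : G → ℂ) := by
  intro hdv
  have he := excess_exc h d c
  rw [excess] at he
  have h1 : (p : ℤ) ∣ d.ε * (e : ℤ) := by
    obtain ⟨k, hk⟩ := hdv
    rw [hk] at he
    refine ⟨(k : ℤ) - m0 h (d.exc c), ?_⟩
    push_cast at he
    linarith
  have h2 : (p : ℤ) ∣ (e : ℤ) := by
    rcases d.hε with h3 | h3 <;> rw [h3] at h1
    · simpa using h1
    · simpa using h1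
  rw [Int.natCast_dvd_natCast] at h2
  have h3 := Nat.le_of_dvd (e_pos h) h2
  have : e ≤ t * e := Nat.le_mul_of_pos_left _ (t_pos h)
  have := h.hte
  have := h.hp3
  omega

open scoped Classical in
/-- The members of degree `n * p + 1`. -/
noncomputable def Plus [Fintype (IrrCharacter G)] : Finset (IrrCharacter G) :=
  Finset.univ.filter fun χ => χ ∈ principalBlock M G ∧ χ ∉ Set.range d.exc ∧ χ ≠ oneG G ∧ d.δ χ = -1

open scoped Classical in
/-- The members of degree `p - 1`. -/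
noncomputable def Minus [Fintype (IrrCharacter G)] : Finset (IrrCharacter G) :=
  Finset.univ.filter fun χ => χ ∈ principalBlock M G ∧ χ ∉ Set.range d.exc ∧ χ ≠ oneG G ∧ d.δ χ = 1

theorem mem_Plus [Fintype (IrrCharacter G)] {χ : IrrCharacter G} : χ ∈ Plus h d ↔
    χ ∈ principalBlock M G ∧ χ ∉ Set.range d.exc ∧ χ ≠ oneG G ∧ d.δ χ = -1 := by
  classical
  rw [Plus, Finset.mem_filter]
  exact ⟨fun a => a.2, fun a => ⟨Finset.mem_univ _, a⟩⟩

theorem mem_Minus [Fintype (IrrCharacter G)] {χ : IrrCharacter G} : χ ∈ Minus h d ↔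
    χ ∈ principalBlock M G ∧ χ ∉ Set.range d.exc ∧ χ ≠ oneG G ∧ d.δ χ = 1 := by
  classical
  rw [Minus, Finset.mem_filter]
  exact ⟨fun a => a.2, fun a => ⟨Finset.mem_univ _, a⟩⟩

omit d in
theorem delta_oneG (d : Data h M) : d.δ (oneG G) = -1 :=
  ((d.cst _ d.oneB d.one_notin).2 1).symm.trans (bInt_oneG h 1)

open scoped Classical in
theorem mem_cases [Fintype (IrrCharacter G)] (χ : IrrCharacter G) :
    χ = oneG G ∨ χ ∈ Plus h d ∨ χ ∈ Minus h d ∨ χ ∈ Set.range d.exc ∨ χ ∉ principalBlock M G := by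
  by_cases hB : χ ∈ principalBlock M G
  · by_cases hr : χ ∈ Set.range d.exc
    · exact Or.inr (Or.inr (Or.inr (Or.inl hr)))
    · by_cases h1 : χ = oneG G
      · exact Or.inl h1
      · rcases (d.cst χ hB hr).1 with hδ | hδ
        · exact Or.inr (Or.inr (Or.inl ((mem_Minus h d).mpr ⟨hB, hr, h1, hδ⟩)))
        · exact Or.inr (Or.inl ((mem_Plus h d).mpr ⟨hB, hr, h1, hδ⟩))
  · exact Or.inr (Or.inr (Or.inr (Or.inr hB)))

open scoped Classical in
theorem card_plus_minus [Fintype (IrrCharacter G)] : (Plus h d).card + (Minus h d).card + 1 = e := by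
  set F := Finset.univ.filter (fun χ => χ ∈ principalBlock M G ∧ χ ∉ Set.range d.exc) with hF
  have hsplit : F = insert (oneG G) (Plus h d ∪ Minus h d) := by
    ext χ
    simp only [hF, Plus, Minus, Finset.mem_insert, Finset.mem_union, Finset.mem_filter, Finset.mem_univ, true_and]
    constructor
    · rintro ⟨hB, hr⟩
      by_cases h1 : χ = oneG G
      · exact Or.inl h1
      · rcases (d.cst χ hB hr).1 with hδ | hδ
        · exact Or.inr (Or.inr ⟨hB, hr, h1, hδ⟩)
        · exact Or.inr (Or.inl ⟨hB, hr, h1, hδ⟩)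
    · rintro (rfl | ⟨hB, hr, -⟩ | ⟨hB, hr, -⟩)
      · exact ⟨d.oneB, d.one_notin⟩
      · exact ⟨hB, hr⟩
      · exact ⟨hB, hr⟩
  have hdisj : Disjoint (Plus h d) (Minus h d) := Finset.disjoint_left.mpr fun χ h1 h2 => by
    have a := (Finset.mem_filter.mp h1).2.2.2.2
    have b := (Finset.mem_filter.mp h2).2.2.2.2
    omega
  have hnot : oneG G ∉ Plus h d ∪ Minus h d := by
    simp [Plus, Minus]
  have hcard : F.card + t = e + t := by
    rw [← d.card, Nat.card_eq_fintype_card, Fintype.card_subtype, ← card_T h, Nat.card_eq_fintype_card,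
      ← Finset.card_univ, ← Finset.card_image_of_injective _ d.inj,
      ← Finset.card_union_of_disjoint (Finset.disjoint_left.mpr fun a ha hb => by
        obtain ⟨c', -, rfl⟩ := Finset.mem_image.mp hb
        exact (Finset.mem_filter.mp ha).2.2 (Set.mem_range_self c'))]
    congr 1
    ext a
    simp only [hF, Finset.mem_filter, Finset.mem_univ, true_and, Finset.mem_union, Finset.mem_image, Set.mem_range]
    constructor
    · rintro (h' | ⟨y, rfl⟩)
      · exact h'.1
      · exact d.excB y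
    · intro h'
      by_cases h'' : ∃ y, d.exc y = a
      · exact Or.inr h''
      · exact Or.inl ⟨h', h''⟩
  rw [hsplit, Finset.card_insert_of_notMem hnot, Finset.card_union_of_disjoint hdisj] at hcard
  omega

open scoped Classical in
/-- The relation at a regular element. -/
theorem rel_apply [Fintype (IrrCharacter G)] {g : G} (hg : ¬ p ∣ orderOf g)
    (c : (ZMod p)ˣ ⧸ U h.hS (oneK x L : K x L → ℂ)) :
    -1 - ∑ χ ∈ Plus h d, (χ : G → ℂ) g + ∑ χ ∈ Minus h d, (χ : G → ℂ) g + (d.ε : ℂ) * (d.exc c : G → ℂ) g = 0 := by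
  set F := insert (oneG G) (Plus h d ∪ Minus h d) with hF
  have hmem : ∀ χ, χ ∈ F ↔ χ ∈ principalBlock M G ∧ χ ∉ Set.range d.exc := by
    intro χ
    simp only [hF, Plus, Minus, Finset.mem_insert, Finset.mem_union, Finset.mem_filter, Finset.mem_univ, true_and]
    constructor
    · rintro (rfl | ⟨hB, hr, -⟩ | ⟨hB, hr, -⟩)
      · exact ⟨d.oneB, d.one_notin⟩
      · exact ⟨hB, hr⟩
      · exact ⟨hB, hr⟩
    · rintro ⟨hB, hr⟩
      by_cases h1 : χ = oneG G
      · exact Or.inl h1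
      · rcases (d.cst χ hB hr).1 with hδ | hδ
        · exact Or.inr (Or.inr ⟨hB, hr, h1, hδ⟩)
        · exact Or.inr (Or.inl ⟨hB, hr, h1, hδ⟩)
  have hdisj : Disjoint (Plus h d) (Minus h d) := Finset.disjoint_left.mpr fun χ h1 h2 => by
    have a := (Finset.mem_filter.mp h1).2.2.2.2
    have b := (Finset.mem_filter.mp h2).2.2.2.2
    omega
  have hnot : oneG G ∉ Plus h d ∪ Minus h d := by
    simp [Plus, Minus]
  have h1 := d.rel F hmem g hg c
  rw [hF, Finset.sum_insert hnot, Finset.sum_union hdisj, delta_oneG h d,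
    Finset.sum_congr (s₁ := Plus h d) rfl (g := fun χ => -((χ : G → ℂ) g))
      (fun χ hχ => by rw [(Finset.mem_filter.mp hχ).2.2.2.2]; push_cast; ring),
    Finset.sum_congr (s₁ := Minus h d) rfl (g := fun χ => (χ : G → ℂ) g)
      (fun χ hχ => by rw [(Finset.mem_filter.mp hχ).2.2.2.2]; push_cast; ring), Finset.sum_neg_distrib,
    show ((oneG G : IrrCharacter G) : G → ℂ) g = 1 from rfl] at h1
  push_cast at h1
  linear_combination h1

end Cfsg.Agent.BrauerFewSylow
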