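/-
Few Sylow subgroups: the degrees in the principal block (namespace `Cfsg.Agent.BrauerFewSylow`).

Main results: `plus_spec`, `minus_spec`, `exc_neg_spec`, `exc_pos_spec`, `rel_one`, `sum_excess`,
`eps_pos_small`.
-/
import Cfsg.Agent.Lib.BrauerFewSylow.Block

set_option autoImplicit false
set_option linter.unusedSectionVars false
set_option linter.style.haveILetI false

open scoped ComplexConjugate

namespace Cfsg.Agent.BrauerFewSylow

open Cfsg Cfsg.Agent.Blocks Cfsg.Agent.CyclicDefect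

variable {G : Type*} [Group G] [Finite G] {p : ℕ} [Fact p.Prime] {x : G} {L : Subgroup G}
  {e t n : ℕ} (h : Ctx p x L e t n)
include h

variable {M : Ideal AlgInt} (d : Data h.toCore M)
include d

theorem plus_spec {χ : IrrCharacter G} (hB : χ ∈ principalBlock M G) (hr : χ ∉ Set.range d.exc)
    (h1 : χ ≠ oneG G) (hδ : d.δ χ = -1) : charDegree (χ : G → ℂ) = n * p + 1 ∧ m0 h.toCore χ = n + 1 := by
  have hp3 := h.hp3
  have he := excess_cst h.toCore d hB hr
  rw [hδ, excess] at he
  have hd2 := deg_ge_two h.toCore h1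
  set D := charDegree (χ : G → ℂ)
  set m := m0 h.toCore χ
  have hnat : D + (p - 1) = p * m := by
    have : ((D + (p - 1) : ℕ) : ℤ) = ((p * m : ℕ) : ℤ) := by push_cast; linarith
    exact_mod_cast this
  obtain ⟨u, hu⟩ : ∃ u, m = u + 1 := ⟨m - 1, by
    rcases Nat.eq_zero_or_pos m with h0 | h0
    · rw [h0, mul_zero] at hnat; omega
    · omega⟩
  rw [hu, mul_add, mul_one] at hnat
  have hD : D = u * p + 1 := by rw [mul_comm u p]; omega
  have hu1 : 1 ≤ u := Nat.pos_of_ne_zero fun h0 => by rw [h0, zero_mul] at hD; omega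
  have hnd : ¬ p ∣ D := fun hdv => by
    rw [hD] at hdv
    exact h.hS.hp.not_dvd_one ((Nat.dvd_add_right (dvd_mul_left p u)).mp hdv)
  obtain ⟨k, hk⟩ := exists_cofactor h hnd
  change D * k = e * (1 + n * p) at hk
  rw [hD] at hk
  have := plus_arith h.hte hp3 h.hn hu1 hk
  subst this
  exact ⟨hD, hu⟩

theorem minus_spec {χ : IrrCharacter G} (hB : χ ∈ principalBlock M G) (hr : χ ∉ Set.range d.exc)
    (hδ : d.δ χ = 1) : charDegree (χ : G → ℂ) = p - 1 ∧ m0 h.toCore χ = 0 := by
  have hp3 := h.hp3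
  have h1 : χ ≠ oneG G := by
    rintro rfl
    have := ((d.cst _ hB hr).2 1).symm.trans (bInt_oneG h.toCore 1)
    omega
  have he := excess_cst h.toCore d hB hr
  rw [hδ, excess] at he
  have hsq := sq_lt h h1
  set D := charDegree (χ : G → ℂ)
  set m := m0 h.toCore χ
  have hnat : D = p * m + (p - 1) := by
    have : ((D : ℕ) : ℤ) = ((p * m + (p - 1) : ℕ) : ℤ) := by push_cast; linarith
    exact_mod_cast this
  have hD : D = (m + 1) * p - 1 := by rw [hnat, add_mul, one_mul, mul_comm m p]; omega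
  have hnd : ¬ p ∣ D := fun hdv => by
    rw [hnat] at hdv
    have := Nat.le_of_dvd (by omega) ((Nat.dvd_add_right (dvd_mul_right p m)).mp hdv)
    omega
  obtain ⟨k, hk⟩ := exists_cofactor h hnd
  change D * k = e * (1 + n * p) at hk
  rw [hD] at hk hsq
  have := minus_arith h.hte hp3 h.hn (show 1 ≤ m + 1 by omega) hk hsq
  have hm : m = 0 := by omega
  rw [hm, mul_zero, zero_add] at hnat
  exact ⟨hnat, hm⟩

theorem exc_neg_spec (hε : d.ε = -1) (c : (ZMod p)ˣ ⧸ U h.hS (oneK x L : K x L → ℂ)) :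
    charDegree (d.exc c : G → ℂ) + e = m0 h.toCore (d.exc c) * p ∧ n + 1 = m0 h.toCore (d.exc c) * t ∧
      charDegree (d.exc c : G → ℂ) * t = n * p + 1 := by
  have hp3 := h.hp3
  have he := excess_exc h.toCore d c
  rw [hε, excess] at he
  have hd2 := deg_ge_two h.toCore (exc_ne_one h.toCore d c)
  obtain ⟨k, hk⟩ := exists_cofactor h (not_dvd_exc h.toCore d c)
  set D := charDegree (d.exc c : G → ℂ)
  set w := m0 h.toCore (d.exc c)
  have hnat : D + e = w * p := by
    have : ((D + e : ℕ) : ℤ) = ((w * p : ℕ) : ℤ) := by push_cast; linarith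
    exact_mod_cast this
  have hw := exc_neg_arith h.hte hp3 h.hn hnat hd2 hk
  refine ⟨hnat, hw, ?_⟩
  have h1 : (D + e) * t = (n + 1) * p := by rw [hnat, hw]; ring
  have h2 := h.hte
  rw [add_mul, add_mul, one_mul, mul_comm e t, h2] at h1
  omega

theorem exc_pos_spec (hε : d.ε = 1) (c : (ZMod p)ˣ ⧸ U h.hS (oneK x L : K x L → ℂ)) :
    charDegree (d.exc c : G → ℂ) = e ∧ m0 h.toCore (d.exc c) = 0 := by
  have he := excess_exc h.toCore d c
  rw [hε, excess] at he
  have hsq := sq_lt h (exc_ne_one h.toCore d c)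
  obtain ⟨k, hk⟩ := exists_cofactor h (not_dvd_exc h.toCore d c)
  set D := charDegree (d.exc c : G → ℂ)
  set w := m0 h.toCore (d.exc c)
  have hnat : D = w * p + e := by
    have : ((D : ℕ) : ℤ) = ((w * p + e : ℕ) : ℤ) := by push_cast; linarith
    exact_mod_cast this
  rw [hnat] at hk hsq
  have hw := exc_pos_arith h.hte h.hp3 h.hn hk hsq
  rw [hw, zero_mul, zero_add] at hnat
  exact ⟨hnat, hw⟩

open scoped Classical in
/-- The relation between the degrees. -/
theorem rel_one [Fintype (IrrCharacter G)] (c : (ZMod p)ˣ ⧸ U h.hS (oneK x L : K x L → ℂ)) :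
    -1 - ((Plus h.toCore d).card : ℤ) * (n * p + 1) + ((Minus h.toCore d).card : ℤ) * ((p - 1 : ℕ) : ℤ) +
      d.ε * (charDegree (d.exc c : G → ℂ) : ℤ) = 0 := by
  have h1 := rel_apply h.toCore d (g := 1) (by rw [orderOf_one]; exact h.hS.hp.not_dvd_one) c
  rw [Finset.sum_congr rfl (g := fun _ => ((n * p + 1 : ℕ) : ℂ)) (fun χ hχ => by
      obtain ⟨hB, hr, hne, hδ⟩ := (Finset.mem_filter.mp hχ).2
      rw [← charDegree_cast, (plus_spec h d hB hr hne hδ).1]),
    Finset.sum_congr (s₁ := Minus h.toCore d) rfl (g := fun _ => ((p - 1 : ℕ) : ℂ)) (fun χ hχ => by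
      obtain ⟨hB, hr, hne, hδ⟩ := (Finset.mem_filter.mp hχ).2
      rw [← charDegree_cast, (minus_spec h d hB hr hδ).1]),
    Finset.sum_const, Finset.sum_const, nsmul_eq_mul, nsmul_eq_mul, ← charDegree_cast] at h1
  exact_mod_cast h1

set_option maxHeartbeats 800000 in
/-- With positive sign the exceptional family has one member. -/
theorem eps_pos_small (hn2 : 2 ≤ n) (hε : d.ε = 1) : t = 1 := by
  classical
  by_contra ht1
  have := Fintype.ofFinite G
  have := Fintype.ofFinite (IrrCharacter G)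
  have hte := h.hte
  have hp3 := h.hp3
  have ht := t_pos h.toCore
  haveI : Nonempty ((ZMod p)ˣ ⧸ U h.hS (oneK x L : K x L → ℂ)) := inferInstance
  obtain ⟨c⟩ := (inferInstance : Nonempty ((ZMod p)ˣ ⧸ U h.hS (oneK x L : K x L → ℂ)))
  set θ := d.exc c
  obtain ⟨hdeg, hm0⟩ := exc_pos_spec h d hε c
  have hmult : ∀ j, mN h.toCore θ j = if hj : j = 0 then 0 else
      if ((Units.mk0 j hj : (ZMod p)ˣ) : (ZMod p)ˣ ⧸ U h.hS (oneK x L : K x L → ℂ)) = c then 1 else 0 := by
    intro j
    split_ifs with hj hc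
    · rw [hj]; exact hm0
    all_goals
      have h1 := d.excb c (Units.mk0 j hj)
      rw [bInt_eq_sub, Units.val_mk0] at h1
      simp only [hε, hc, if_true, if_false] at h1
      change ((mN h.toCore θ j : ℕ) : ℤ) - (m0 h.toCore θ : ℤ) = _ at h1
      rw [hm0] at h1
      omega
  have hsq : ∑ j : ZMod p, (mN h.toCore θ j : ℂ) ^ 2 = (e : ℂ) := by
    have h1 : ∀ j, (mN h.toCore θ j : ℂ) ^ 2 = (mN h.toCore θ j : ℂ) := fun j => by
      rw [hmult j]
      split_ifs <;> norm_num
    rw [Finset.sum_congr rfl fun j _ => h1 j, ← Nat.cast_sum, ← charDegree_eq_sum' h.toCore, hdeg]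
  set Φ : G → ℂ := fun g => (θ : G → ℂ) g * conj ((θ : G → ℂ) g) with hΦ
  obtain ⟨m, hm, hmi⟩ := Char.IsCharacter.decompose (G := G) (χ := Φ)
    (Char.IsCharacter.mul (Char.IsIrrCharacter.isCharacter θ.2) (Char.IsCharacter.conj (Char.IsIrrCharacter.isCharacter θ.2)))
  have hm1 : m (oneG G) = 1 := by
    apply Nat.cast_injective (R := ℂ)
    rw [← hmi, Nat.cast_one, ← Char.classInner_irr_self θ.2, classInner, classInner]
    simp [hΦ]
  have hexc := sum_excess h.toCore hm
  rw [sum_norm_pw h.toCore θ, hsq, show Φ 1 = ((e * e : ℕ) : ℂ) by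
    show (θ : G → ℂ) 1 * conj ((θ : G → ℂ) 1) = _
    rw [← charDegree_cast, hdeg, Complex.conj_natCast, Nat.cast_mul]] at hexc
  have hexc' : (p : ℤ) * e - e * e = ∑ χ : IrrCharacter G, (m χ : ℤ) * excess h.toCore χ := by
    apply Int.cast_injective (α := ℂ)
    push_cast
    push_cast at hexc
    exact hexc
  set A := ∑ χ ∈ Plus h.toCore d, m χ
  have hbound : ∑ χ : IrrCharacter G, (m χ : ℤ) * excess h.toCore χ ≤ ((p - 1 : ℕ) : ℤ) * (1 + A) := by
    calc ∑ χ : IrrCharacter G, (m χ : ℤ) * excess h.toCore χ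
        ≤ ∑ χ : IrrCharacter G, ((if χ = oneG G then ((p - 1 : ℕ) : ℤ) else 0) +
            if χ ∈ Plus h.toCore d then (m χ : ℤ) * ((p - 1 : ℕ) : ℤ) else 0) := by
          refine Finset.sum_le_sum fun χ _ => ?_
          rcases mem_cases h.toCore d χ with rfl | hc | hc | ⟨c', rfl⟩ | hc
          · rw [if_pos rfl, if_neg (fun h' => ((mem_Plus h.toCore d).mp h').2.2.1 rfl), excess_oneG h.toCore d, hm1,
              Nat.cast_one, one_mul, add_zero]
          · obtain ⟨hB, hr, hne, hδ⟩ := (mem_Plus h.toCore d).mp hc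
            rw [if_neg hne, if_pos hc, excess_cst h.toCore d hB hr, hδ, neg_mul, one_mul, neg_neg, zero_add]
          · obtain ⟨hB, hr, hne, hδ⟩ := (mem_Minus h.toCore d).mp hc
            rw [if_neg hne, if_neg (fun h' => by have := ((mem_Plus h.toCore d).mp h').2.2.2; omega),
              excess_cst h.toCore d hB hr, hδ, one_mul, add_zero]
            exact mul_nonpos_of_nonneg_of_nonpos (Int.natCast_nonneg _) (neg_nonpos.mpr (Int.natCast_nonneg _))
          · rw [if_neg (exc_ne_one h.toCore d c'), if_neg (fun h' => ((mem_Plus h.toCore d).mp h').2.1 (Set.mem_range_self c')),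
              excess_exc h.toCore d c', hε, one_mul, add_zero]
            exact mul_nonpos_of_nonneg_of_nonpos (Int.natCast_nonneg _) (neg_nonpos.mpr (Int.natCast_nonneg _))
          · rw [excess_out h.toCore d hc, mul_zero]
            exact add_nonneg (ite_nonneg (Int.natCast_nonneg _) le_rfl)
              (ite_nonneg (mul_nonneg (Int.natCast_nonneg _) (Int.natCast_nonneg _)) le_rfl)
      _ = _ := by
        rw [Finset.sum_add_distrib, Finset.sum_ite_eq', if_pos (Finset.mem_univ _), Finset.sum_ite_mem, Finset.univ_inter,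
          ← Finset.sum_mul, ← Nat.cast_sum]
        ring
  have hA : A * (n * p + 1) + 1 ≤ e * e := by
    have hΦd : e * e = ∑ χ : IrrCharacter G, m χ * charDegree (χ : G → ℂ) := by
      apply Nat.cast_injective (R := ℂ)
      have h1 := congrFun hm 1
      simp only [Finset.sum_apply, Pi.smul_apply, smul_eq_mul, hΦ] at h1
      rw [← charDegree_cast, hdeg, Complex.conj_natCast] at h1
      push_cast
      rw [h1]
      exact Finset.sum_congr rfl fun χ _ => by rw [charDegree_cast]
    have hnot : oneG G ∉ Plus h.toCore d := fun h' => ((mem_Plus h.toCore d).mp h').2.2.1 rfl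
    rw [hΦd]
    refine le_trans (le_of_eq ?_) (Finset.sum_le_sum_of_subset (Finset.subset_univ (insert (oneG G) (Plus h.toCore d))))
    rw [Finset.sum_insert hnot, hm1, one_mul,
      show charDegree ((oneG G : IrrCharacter G) : G → ℂ) = 1 from Nat.cast_injective (R := ℂ) (by rw [charDegree_cast, Nat.cast_one]; rfl),
      add_comm, Finset.sum_mul]
    refine congrArg _ (Finset.sum_congr rfl fun χ hχ => ?_)
    obtain ⟨hB, hr, hne, hδ⟩ := (mem_Plus h.toCore d).mp hχ
    rw [(plus_spec h d hB hr hne hδ).1]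
  have he2 : 2 ≤ e := by
    have := deg_ge_two h.toCore (exc_ne_one h.toCore d c)
    omega
  have hp' : (p : ℤ) = (t : ℤ) * e + 1 := by
    have : p = t * e + 1 := by omega
    exact_mod_cast this
  have hpm : (((p - 1 : ℕ)) : ℤ) = (t : ℤ) * e := by
    rw [← hte]; push_cast; ring
  rw [← hexc', hpm, hp'] at hbound
  have hA' : (A : ℤ) * ((n : ℤ) * p + 1) + 1 ≤ (e : ℤ) * e := by exact_mod_cast hA
  rw [hp'] at hA'
  have h2 : ((e : ℤ) - 1) * ((t : ℤ) - 1) ≤ (t : ℤ) * A := by
    refine le_of_mul_le_mul_left (a := (e : ℤ)) ?_ (by omega)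
    nlinarith
  have h3 : (A : ℤ) * (2 * ((t : ℤ) * e + 1) + 1) + 1 ≤ (e : ℤ) * e := by
    refine le_trans ?_ hA'
    have : (2 : ℤ) * ((t : ℤ) * e + 1) ≤ (n : ℤ) * ((t : ℤ) * e + 1) :=
      mul_le_mul_of_nonneg_right (by exact_mod_cast hn2) (by positivity)
    nlinarith
  have h4 : ((t : ℤ) - 1) * (2 * ((t : ℤ) * e + 1) + 1) ≤ (t : ℤ) * ((e : ℤ) + 1) := by
    refine le_of_mul_le_mul_left (a := (e : ℤ) - 1) ?_ (by omega)
    nlinarith
  have h5 : (1 : ℤ) * (2 * ((t : ℤ) * e + 1) + 1) ≤ ((t : ℤ) - 1) * (2 * ((t : ℤ) * e + 1) + 1) :=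
    mul_le_mul_of_nonneg_right (by omega) (by positivity)
  nlinarith

end Cfsg.Agent.BrauerFewSylow
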