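/-
Few Sylow subgroups: the characters induced from the normalizer (namespace `Cfsg.Agent.BrauerFewSylow`).

Main results: `ell`, `exists_conj_eq`, `ind`, `sum_a`, `ind_principal_spec`, `ind_nonprincipal_spec`.
-/
import Cfsg.Agent.Lib.BrauerFewSylow.Degrees
import Cfsg.Agent.Lib.Char.Induced

set_option autoImplicit false
set_option linter.unusedSectionVars false
set_option linter.style.haveILetI false

open scoped ComplexConjugate

namespace Cfsg.Agent.BrauerFewSylow

open Cfsg Cfsg.Agent.Blocks Cfsg.Agent.CyclicDefect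

variable {G : Type*} [Group G] [Finite G] {p : ℕ} [Fact p.Prime] {x : G} {L : Subgroup G}
  {e t n : ℕ} (h : Ctx p x L e t n)

include h

theorem index_Nr : (Nr x).index = 1 + n * p := by
  have h1 := (Nr x).card_mul_index
  rw [card_Nr h.toCore, h.hcard] at h1
  exact Nat.eq_of_mul_eq_mul_left (Nat.mul_pos (e_pos h.toCore) h.hS.hp.pos) h1

/-- The character induced from the normalizer. -/
noncomputable def ind [Fintype G] (μ : IrrCharacter L) : G → ℂ :=
  indFun (Nr x) (fun m => (μ : L → ℂ) (ell h.toCore m))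

variable [Fintype G]

theorem isCharacter_ind (μ : IrrCharacter L) : IsCharacter G (ind h μ) :=
  Char.IsCharacter.indFun _ (Char.IsCharacter.comp_hom (Char.IsIrrCharacter.isCharacter μ.2) (ell h.toCore))

theorem ind_one_apply (μ : IrrCharacter L) : ind h μ 1 = ((n * p + 1 : ℕ) : ℂ) := by
  rw [ind, Char.indFun_one_apply, map_one, irr_L_one h.toCore, mul_one, index_Nr h, add_comm]

theorem mem_Nr_of_conj_pw {i : ZMod p} (hi : i ≠ 0) {g : G} (hg : g⁻¹ * pw x i * g ∈ Nr x) : g ∈ Nr x := by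
  have ho : orderOf (g⁻¹ * pw x i * g) = p := by
    rw [show g⁻¹ * pw x i * g = g⁻¹ * pw x i * g⁻¹⁻¹ by rw [inv_inv], SecondMain.orderOf_conj, h.hS.orderOf_pw hi]
  have hmem := mem_zpowers_of_orderOf h.toCore hg ho
  have hgen : Subgroup.zpowers (pw x i) = Subgroup.zpowers x :=
    Subgroup.eq_of_le_of_card_ge (Subgroup.zpowers_le.mpr (h.hS.pw_mem i))
      (by rw [Nat.card_zpowers, Nat.card_zpowers, h.hS.orderOf_pw hi, h.hS.hx])
  have hle : (Subgroup.zpowers x).map (MulAut.conj g⁻¹).toMonoidHom = Subgroup.zpowers x := by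
    refine Subgroup.eq_of_le_of_card_ge ?_ (le_of_eq (Subgroup.card_map_of_injective (MulAut.conj g⁻¹).injective).symm)
    conv_lhs => rw [← hgen]
    rw [MonoidHom.map_zpowers, Subgroup.zpowers_le]
    simpa using hmem
  rw [← inv_mem_iff (H := Nr x), Subgroup.mem_normalizer_iff]
  intro z
  constructor
  · intro hz
    rw [← hle]
    exact ⟨z, hz, rfl⟩
  · intro hz
    have hz' : g⁻¹ * z * g⁻¹⁻¹ ∈ (Subgroup.zpowers x).map (MulAut.conj g⁻¹).toMonoidHom := hle.symm ▸ hz
    obtain ⟨w, hw, he⟩ := hz'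
    rwa [← show w = z from (MulAut.conj g⁻¹).injective he]

theorem ind_pw (μ : IrrCharacter L) {i : ZMod p} (hi : i ≠ 0) : ind h μ (pw x i) = 1 := by
  classical
  rw [ind, indFun, Finset.sum_congr rfl (g := fun g : G => if g ∈ Nr x then (1 : ℂ) else 0) fun g _ => ?_,
    Finset.sum_boole, ← Fintype.card_subtype, ← Nat.card_eq_fintype_card,
    inv_mul_cancel₀ (Nat.cast_ne_zero.mpr Nat.card_pos.ne')]
  rw [Char.extendByZero_eq]
  by_cases hg : g ∈ Nr x
  · have hm : g⁻¹ * pw x i * g ∈ Nr x :=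
      Subgroup.mul_mem _ (Subgroup.mul_mem _ (inv_mem hg) (Subgroup.le_normalizer (h.hS.pw_mem i))) hg
    rw [dif_pos hm, if_pos hg, (ell_eq_one_iff h.toCore _).mpr, irr_L_one h.toCore]
    exact (Subgroup.mem_normalizer_iff''.mp hg _).mp (h.hS.pw_mem i)
  · rw [dif_neg (fun hm => hg (mem_Nr_of_conj_pw h hi hm)), if_neg hg]

theorem sum_ind_pw (μ : IrrCharacter L) : ∑ i : ZMod p, ind h μ (pw x i) = ((p * (n + 1) : ℕ) : ℂ) := by
  rw [← Finset.add_sum_erase _ _ (Finset.mem_univ (0 : ZMod p)), h.hS.pw_zero, ind_one_apply h,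
    Finset.sum_congr rfl (g := fun _ => (1 : ℂ)) (fun i hi => ind_pw h μ (Finset.ne_of_mem_erase hi)),
    Finset.sum_const, Finset.card_erase_of_mem (Finset.mem_univ _), Finset.card_univ, ZMod.card, nsmul_eq_mul, mul_one,
    ← Nat.cast_add]
  congr 1
  have := h.hS.hp.pos
  rw [mul_add, mul_one, mul_comm n p]
  omega

/-- The multiplicity of `χ` in the induced character. -/
noncomputable def a (μ : IrrCharacter L) (χ : IrrCharacter G) : ℕ :=
  (Char.IsCharacter.classInner_nat (isCharacter_ind h μ) (Char.IsIrrCharacter.isCharacter χ.2)).choose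

theorem a_spec (μ : IrrCharacter L) (χ : IrrCharacter G) :
    classInner (ind h μ) (χ : G → ℂ) = (a h μ χ : ℂ) :=
  (Char.IsCharacter.classInner_nat (isCharacter_ind h μ) (Char.IsIrrCharacter.isCharacter χ.2)).choose_spec

theorem a_frob (μ : IrrCharacter L) (χ : IrrCharacter G) [Fintype (Nr x)] :
    classInner (fun m : Nr x => (μ : L → ℂ) (ell h.toCore m)) (fun m : Nr x => (χ : G → ℂ) m) = (a h μ χ : ℂ) := by
  rw [← a_spec h, ind, Char.frobenius_reciprocity _ _ (irr_class χ)]

variable [Fintype (IrrCharacter G)]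

theorem ind_eq_sum (μ : IrrCharacter L) : ind h μ = ∑ χ : IrrCharacter G, (a h μ χ : ℂ) • (χ : G → ℂ) := by
  obtain ⟨m, hm, hmi⟩ := Char.IsCharacter.decompose (isCharacter_ind h μ)
  refine hm.trans (Finset.sum_congr rfl fun χ _ => ?_)
  rw [← a_spec h, hmi]

theorem sum_a_deg (μ : IrrCharacter L) : ∑ χ : IrrCharacter G, a h μ χ * charDegree (χ : G → ℂ) = n * p + 1 := by
  apply Nat.cast_injective (R := ℂ)
  rw [← ind_one_apply h μ, ind_eq_sum h μ, Nat.cast_sum, Finset.sum_apply]
  exact Finset.sum_congr rfl fun χ _ => by rw [Pi.smul_apply, smul_eq_mul, Nat.cast_mul, charDegree_cast]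

theorem sum_a_excess (μ : IrrCharacter L) :
    ∑ χ : IrrCharacter G, (a h μ χ : ℤ) * excess h.toCore χ = ((p - 1 : ℕ) : ℤ) := by
  apply Int.cast_injective (α := ℂ)
  push_cast
  rw [← sum_excess h.toCore (ind_eq_sum h μ), sum_ind_pw h, ind_one_apply h, Nat.cast_sub h.hS.hp.one_lt.le]
  push_cast
  ring

/-- The fixed space of `⟨x⟩` is shared between the induced characters. -/
theorem sum_a [Fintype (IrrCharacter L)] (χ : IrrCharacter G) : ∑ μ : IrrCharacter L, a h μ χ = m0 h.toCore χ := by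
  classical
  apply Nat.cast_injective (R := ℂ)
  have hP : ∑ m : Nr x, (if ell h.toCore m = 1 then conj ((χ : G → ℂ) m) else 0) = (p : ℂ) * m0 h.toCore χ := by
    rw [← Finset.sum_filter]
    have : ∑ m ∈ Finset.univ.filter (fun m : Nr x => ell h.toCore m = 1), conj ((χ : G → ℂ) m) =
        ∑ i : ZMod p, conj ((χ : G → ℂ) (pw x i)) := by
      symm
      refine Finset.sum_bij (fun i _ => (⟨pw x i, Subgroup.le_normalizer (h.hS.pw_mem i)⟩ : Nr x))
        (fun i _ => Finset.mem_filter.mpr ⟨Finset.mem_univ _, (ell_eq_one_iff h.toCore _).mpr (h.hS.pw_mem i)⟩)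
        (fun i _ j _ e => h.hS.pw_inj (congrArg Subtype.val e :)) (fun m hm => ?_) (fun i _ => rfl)
      obtain ⟨i, hi⟩ := h.hS.exists_pw ((ell_eq_one_iff h.toCore m).mp (Finset.mem_filter.mp hm).2)
      exact ⟨i, Finset.mem_univ _, Subtype.ext hi.symm⟩
    rw [this, ← map_sum, sum_apply_pw h.toCore, map_mul, Complex.conj_natCast, Complex.conj_natCast]
  have hep : ((e * p : ℕ) : ℂ) ≠ 0 := Nat.cast_ne_zero.mpr (Nat.mul_pos (e_pos h.toCore) h.hS.hp.pos).ne'
  rw [Nat.cast_sum, Finset.sum_congr rfl fun μ _ => (a_frob h μ χ).symm]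
  simp only [classInner, card_Nr h.toCore]
  rw [← Finset.mul_sum, Finset.sum_comm]
  simp only [← Finset.sum_mul, sum_irr_L h.toCore, ite_mul, zero_mul]
  rw [Finset.sum_congr rfl (g := fun m : Nr x => (e : ℂ) * if ell h.toCore m = 1 then conj ((χ : G → ℂ) m) else 0)
    fun m _ => by split_ifs <;> simp, ← Finset.mul_sum, hP, ← mul_assoc (e : ℂ), ← Nat.cast_mul, inv_mul_cancel_left₀ hep]

theorem a_oneG (μ : IrrCharacter L) [Decidable (μ = oneL L)] :
    a h μ (oneG G) = if μ = oneL L then 1 else 0 := by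
  classical
  apply Nat.cast_injective (R := ℂ)
  rw [← a_frob h μ (oneG G), classInner, card_Nr h.toCore]
  simp only [show ∀ m : Nr x, ((oneG G : IrrCharacter G) : G → ℂ) m = 1 from fun _ => rfl, map_one, mul_one]
  have hfib : ∀ l : L, (Finset.univ.filter fun m : Nr x => ell h.toCore m = l).card = p := by
    intro l
    refine Eq.trans ?_ (Finset.card_univ.trans (ZMod.card p))
    refine (Finset.card_bij (fun i _ => (⟨pw x i * (l : G),
      Subgroup.mul_mem _ (Subgroup.le_normalizer (h.hS.pw_mem i)) (h.hS.hL l.2)⟩ : Nr x))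
      (fun i _ => Finset.mem_filter.mpr ⟨Finset.mem_univ _, ell_mul_pw h.toCore i l⟩)
      (fun i _ j _ e => h.hS.pw_inj (mul_right_cancel (congrArg Subtype.val e :))) (fun m hm => ?_)).symm
    obtain ⟨i, hi⟩ := exists_pw_mul h.toCore m
    refine ⟨i, Finset.mem_univ _, Subtype.ext ?_⟩
    rw [hi, (Finset.mem_filter.mp hm).2]
  rw [← Finset.sum_fiberwise_of_maps_to (t := (Finset.univ : Finset L)) (g := ell h.toCore) (fun _ _ => Finset.mem_univ _),
    Finset.sum_congr rfl (g := fun l : L => (p : ℂ) * (μ : L → ℂ) l) (fun l _ => by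
      rw [Finset.sum_congr rfl (g := fun _ => (μ : L → ℂ) l) (fun m hm => by
          rw [(Finset.mem_filter.mp hm).2, Pi.one_apply, map_one, mul_one]),
        Finset.sum_const, hfib, nsmul_eq_mul]), ← Finset.mul_sum]
  have h1 := Char.classInner_irr μ.2 (Char.isIrrCharacter_one (G := L))
  rw [classInner, h.he] at h1
  simp only [Pi.one_apply, map_one, mul_one] at h1
  rw [Nat.cast_mul, mul_inv, mul_assoc, inv_mul_cancel_left₀ (Nat.cast_ne_zero.mpr h.hS.hp.ne_zero), h1]
  by_cases hμ : μ = oneL L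
  · rw [if_pos hμ, if_pos (congrArg Subtype.val hμ), Nat.cast_one]
  · rw [if_neg hμ, if_neg (fun e => hμ (Subtype.ext e)), Nat.cast_zero]

variable {M : Ideal AlgInt} (d : Data h.toCore M)
include d

theorem excess_nonneg_of_a {μ : IrrCharacter L} {χ : IrrCharacter G} [Fintype (IrrCharacter L)] (ha : a h μ χ ≠ 0) :
    m0 h.toCore χ ≠ 0 := by
  rw [← sum_a h χ]
  intro h0
  exact ha (Finset.sum_eq_zero_iff.mp h0 μ (Finset.mem_univ μ))

/-- The induced principal character: the principal character plus characters outside the block. -/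
theorem ind_principal_spec [Fintype (IrrCharacter L)] :
    (∀ χ : IrrCharacter G, χ ≠ oneG G → χ ∈ principalBlock M G → a h (oneL L) χ = 0) := by
  classical
  intro χ hne hB
  have hs := sum_a_excess h (oneL L)
  rw [← Finset.add_sum_erase _ _ (Finset.mem_univ (oneG G)), a_oneG h, if_pos rfl, excess_oneG h.toCore d, Nat.cast_one,
    one_mul, add_eq_left] at hs
  have hnn : ∀ φ ∈ Finset.univ.erase (oneG G), 0 ≤ (a h (oneL L) φ : ℤ) * excess h.toCore φ := by
    intro φ hφ
    by_cases ha : a h (oneL L) φ = 0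
    · rw [ha, Nat.cast_zero, zero_mul]
    refine mul_nonneg (Int.natCast_nonneg _) ?_
    rcases mem_cases h.toCore d φ with rfl | hc | hc | ⟨c', rfl⟩ | hc
    · exact absurd rfl (Finset.ne_of_mem_erase hφ)
    · obtain ⟨hB', hr, -, hδ⟩ := (mem_Plus h.toCore d).mp hc
      rw [excess_cst h.toCore d hB' hr, hδ, neg_mul, one_mul, neg_neg]
      exact Int.natCast_nonneg _
    · obtain ⟨hB', hr, -, hδ⟩ := (mem_Minus h.toCore d).mp hc
      exact absurd (minus_spec h d hB' hr hδ).2 (excess_nonneg_of_a h d ha)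
    · rcases d.hε with hε | hε
      · exact absurd (exc_pos_spec h d hε c').2 (excess_nonneg_of_a h d ha)
      · rw [excess_exc h.toCore d c', hε, neg_mul, one_mul, neg_neg]
        exact Int.natCast_nonneg _
    · rw [excess_out h.toCore d hc]
  have h0 := (Finset.sum_eq_zero_iff_of_nonneg hnn).mp hs χ (Finset.mem_erase.mpr ⟨hne, Finset.mem_univ χ⟩)
  by_contra ha
  rcases mem_cases h.toCore d χ with rfl | hc | hc | ⟨c', rfl⟩ | hc
  · exact hne rfl
  · obtain ⟨hB', hr, -, hδ⟩ := (mem_Plus h.toCore d).mp hc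
    rw [excess_cst h.toCore d hB' hr, hδ, neg_mul, one_mul, neg_neg] at h0
    rcases mul_eq_zero.mp h0 with h1 | h1
    · omega
    · have := h.hp3; omega
  · obtain ⟨hB', hr, -, hδ⟩ := (mem_Minus h.toCore d).mp hc
    exact excess_nonneg_of_a h d ha (minus_spec h d hB' hr hδ).2
  · rcases d.hε with hε | hε
    · exact excess_nonneg_of_a h d ha (exc_pos_spec h d hε c').2
    · rw [excess_exc h.toCore d c', hε, neg_mul, one_mul, neg_neg] at h0
      rcases mul_eq_zero.mp h0 with h1 | h1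
      · omega
      · have := e_pos h.toCore; omega
  · exact hc hB

set_option maxHeartbeats 800000 in
open scoped Classical in
/-- An induced nonprincipal character: one member of degree `n * p + 1` or the exceptional family. -/
theorem ind_nonprincipal_spec [Fintype (IrrCharacter L)] {μ : IrrCharacter L} (hμ : μ ≠ oneL L) :
    (∀ χ : IrrCharacter G, χ ∉ Plus h.toCore d → χ ∉ Set.range d.exc → a h μ χ = 0) ∧
      ((∑ χ ∈ Plus h.toCore d, a h μ χ = 1 ∧ ∀ c, a h μ (d.exc c) = 0) ∨
        (∑ χ ∈ Plus h.toCore d, a h μ χ = 0 ∧ d.ε = -1 ∧ ∑ c, a h μ (d.exc c) = t)) := by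
  classical
  set A := ∑ χ ∈ Plus h.toCore d, a h μ χ with hA
  set B := ∑ c, a h μ (d.exc c) with hB
  have hdisj : Disjoint (Plus h.toCore d) (Finset.univ.image d.exc) := Finset.disjoint_left.mpr fun χ h1 h2 => by
    obtain ⟨c, -, rfl⟩ := Finset.mem_image.mp h2
    exact ((mem_Plus h.toCore d).mp h1).2.1 (Set.mem_range_self c)
  set S := Plus h.toCore d ∪ Finset.univ.image d.exc with hS
  have hzero : ∀ χ ∈ Finset.univ \ S, a h μ χ = 0 ∨ excess h.toCore χ = 0 := by
    intro χ hχ
    simp only [hS, Finset.mem_sdiff, Finset.mem_univ, true_and, Finset.mem_union, Finset.mem_image, not_or] at hχ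
    rcases mem_cases h.toCore d χ with rfl | hc | hc | ⟨c', rfl⟩ | hc
    · exact Or.inl (by rw [a_oneG h, if_neg hμ])
    · exact absurd hc hχ.1
    · obtain ⟨hB', hr, -, hδ⟩ := (mem_Minus h.toCore d).mp hc
      exact Or.inl (by_contra fun ha => excess_nonneg_of_a h d ha (minus_spec h d hB' hr hδ).2)
    · exact absurd ⟨c', rfl⟩ hχ.2
    · exact Or.inr (excess_out h.toCore d hc)
  have hBz : d.ε = 1 → ∀ c, a h μ (d.exc c) = 0 := fun hε c =>
    by_contra fun ha => excess_nonneg_of_a h d ha (exc_pos_spec h d hε c).2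
  have hex : ((p - 1 : ℕ) : ℤ) = (A : ℤ) * ((p - 1 : ℕ) : ℤ) + (B : ℤ) * (e : ℤ) := by
    refine Eq.trans (sum_a_excess h μ).symm ?_
    rw [← Finset.sum_sdiff (Finset.subset_univ S),
      Finset.sum_eq_zero (fun χ hχ => by
        rcases hzero χ hχ with h1 | h1 <;> rw [h1] <;> simp), zero_add, hS, Finset.sum_union hdisj,
      Finset.sum_image (fun a _ b _ h' => d.inj h'), hA, hB, Nat.cast_sum, Nat.cast_sum, Finset.sum_mul, Finset.sum_mul]
    refine congrArg₂ (· + ·) (Finset.sum_congr rfl fun χ hχ => ?_) (Finset.sum_congr rfl fun c _ => ?_)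
    · obtain ⟨hB', hr, -, hδ⟩ := (mem_Plus h.toCore d).mp hχ
      rw [excess_cst h.toCore d hB' hr, hδ, neg_mul, one_mul, neg_neg]
    · rcases d.hε with hε | hε
      · rw [hBz hε c, Nat.cast_zero, zero_mul, zero_mul]
      · rw [excess_exc h.toCore d c, hε, neg_mul, one_mul, neg_neg]
  have hte := h.hte
  have hex' : p - 1 = A * (p - 1) + B * e := by exact_mod_cast hex
  have hcases : A = 1 ∧ B = 0 ∨ A = 0 ∧ B = t := by
    rcases Nat.eq_zero_or_pos A with h0 | h0
    · refine Or.inr ⟨h0, ?_⟩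
      rw [h0, zero_mul, zero_add, ← hte] at hex'
      exact (Nat.eq_of_mul_eq_mul_right (e_pos h.toCore) hex').symm
    · have hle : 1 * (p - 1) ≤ A * (p - 1) := Nat.mul_le_mul_right _ h0
      rw [one_mul] at hle
      have hA1 : A = 1 := by
        have h2 : A * (p - 1) = 1 * (p - 1) := by omega
        exact Nat.eq_of_mul_eq_mul_right (by have := h.hp3; omega) h2
      refine Or.inl ⟨hA1, ?_⟩
      have h2 : B * e = 0 := by rw [hA1, one_mul] at hex'; omega
      exact (Nat.mul_eq_zero.mp h2).resolve_right (by have := e_pos h.toCore; omega)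
  have hdeg := sum_a_deg h μ
  rw [← Finset.sum_sdiff (Finset.subset_univ S), hS, Finset.sum_union hdisj, Finset.sum_image (fun a _ b _ h' => d.inj h'),
    ← hS, Finset.sum_congr (s₁ := Plus h.toCore d) rfl (g := fun χ => a h μ χ * (n * p + 1)) (fun χ hχ => by
      obtain ⟨hB', hr, hne, hδ⟩ := (mem_Plus h.toCore d).mp hχ
      rw [(plus_spec h d hB' hr hne hδ).1]), ← Finset.sum_mul, ← hA] at hdeg
  have hrest : ∑ χ ∈ Finset.univ \ S, a h μ χ * charDegree (χ : G → ℂ) = 0 := by
    rcases hcases with ⟨h1, h2⟩ | ⟨h1, h2⟩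
    · rw [h1, one_mul] at hdeg
      omega
    · have ht := t_pos h.toCore
      have hε : d.ε = -1 := d.hε.resolve_left fun hε => by
        have : B = 0 := Finset.sum_eq_zero fun c _ => hBz hε c
        omega
      have h3 : t * ∑ c, a h μ (d.exc c) * charDegree (d.exc c : G → ℂ) = t * (n * p + 1) := by
        rw [Finset.mul_sum, Finset.sum_congr rfl (g := fun c => a h μ (d.exc c) * (n * p + 1))
          (fun c _ => by rw [← (exc_neg_spec h d hε c).2.2]; ring), ← Finset.sum_mul, ← hB, h2]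
      have h4 := Nat.eq_of_mul_eq_mul_left ht h3
      omega
  refine ⟨fun χ hP hr => ?_, ?_⟩
  · have hmem : χ ∈ Finset.univ \ S := by
      simp only [hS, Finset.mem_sdiff, Finset.mem_univ, true_and, Finset.mem_union, Finset.mem_image, not_or]
      exact ⟨hP, fun ⟨c, hc⟩ => hr ⟨c, hc⟩⟩
    exact (Nat.mul_eq_zero.mp (Finset.sum_eq_zero_iff.mp hrest χ hmem)).resolve_right (deg_pos h.toCore χ).ne'
  · rcases hcases with ⟨h1, h2⟩ | ⟨h1, h2⟩
    · exact Or.inl ⟨h1, fun c => Finset.sum_eq_zero_iff.mp h2 c (Finset.mem_univ c)⟩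
    · refine Or.inr ⟨h1, d.hε.resolve_left fun hε => ?_, h2⟩
      have : B = 0 := Finset.sum_eq_zero fun c _ => hBz hε c
      have := t_pos h.toCore
      omega

end Cfsg.Agent.BrauerFewSylow
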