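/-
Few Sylow subgroups: the fixed points of the complement and its normalizer (namespace `Cfsg.Agent.BrauerFewSylow`).

Main results: `two_le_e`, `sum_a_sq`, `exists_fixed`, `card_fix`, `card_M`, `card_centralizer_le`, `ind_apply_L`,
`inner_ind`.
-/
import Cfsg.Agent.Lib.BrauerFewSylow.Induced
import Cfsg.Agent.Lib.Char.Perm

set_option autoImplicit false
set_option linter.unusedSectionVars false
set_option linter.style.haveILetI false

open scoped ComplexConjugate

namespace Cfsg.Agent.BrauerFewSylow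

open Cfsg Cfsg.Agent.Blocks Cfsg.Agent.CyclicDefect

variable {G : Type*} [Group G] [Fintype G] {p : ℕ} [Fact p.Prime] {x : G} {L : Subgroup G}
  {e t n : ℕ} (h : Ctx p x L e t n) {M : Ideal AlgInt} (d : Data h.toCore M)

/-- The base point of `G ⧸ N`. -/
abbrev base (x : G) : G ⧸ Nr x := ((1 : G) : G ⧸ Nr x)

/-- The normalizer of the complement. -/
abbrev Mn (L : Subgroup G) : Subgroup G := Subgroup.normalizer (L : Set G)

theorem smul_base_eq {g g' : G} : g • base x = g' • base x ↔ g⁻¹ * g' ∈ Nr x := by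
  show ((g * 1 : G) : G ⧸ Nr x) = ((g' * 1 : G) : G ⧸ Nr x) ↔ _
  rw [mul_one, mul_one, QuotientGroup.eq]

theorem smul_base_self {g : G} : g • base x = base x ↔ g ∈ Nr x := by
  have := smul_base_eq (x := x) (g := g) (g' := 1)
  rwa [one_smul, mul_one, inv_mem_iff] at this

include h

theorem pw_smul_cancel {i : ZMod p} (hi : i ≠ 0) {q : G ⧸ Nr x} (hq : pw x i • q = q) (j : ZMod p) :
    pw x j • q = q := by
  have hst : pw x i ∈ MulAction.stabilizer G q := hq
  have := pow_mem hst (i⁻¹ * j).val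
  rw [h.hS.pw_pow, ZMod.natCast_rightInverse, mul_right_comm, inv_mul_cancel₀ hi, one_mul] at this
  exact this

theorem alpha_ne_one {l : L} (hl : l ≠ 1) : (CyclicDefect.alpha h.hS l : ZMod p) ≠ 1 := fun e =>
  hl (alpha_injective h.toCore (by rw [map_one, Units.ext_iff, Units.val_one, e]))

theorem pw_comm_L {l : L} (hl : l ≠ 1) {i : ZMod p} (hi : Commute (pw x i) (l : G)) : i = 0 := by
  have h1 := CyclicDefect.alpha_spec h.hS l i
  rw [← hi.eq, mul_inv_cancel_right] at h1
  have h2 := h.hS.pw_inj h1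
  by_contra hne
  exact alpha_ne_one h hl (mul_left_eq_self₀.mp h2.symm |>.resolve_right hne)

/-- The fixed point in a `⟨x⟩`-orbit is unique. -/
theorem fixed_unique {l : L} (hl : l ≠ 1) {q : G ⧸ Nr x} {i : ZMod p} (hq : (l : G) • q = q)
    (hqi : (l : G) • pw x i • q = pw x i • q) : pw x i • q = q := by
  set a : ZMod p := (CyclicDefect.alpha h.hS l : ZMod p)
  have h1 : pw x (a * i) • q = pw x i • q := by
    conv_lhs => rw [← hq]
    rw [← CyclicDefect.alpha_spec h.hS l i, ← mul_smul, inv_mul_cancel_right, mul_smul, hqi]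
  have h2 : pw x ((a - 1) * i) • q = q := by
    have h3 := congrArg (pw x (-i) • ·) h1
    simp only [← mul_smul, ← h.hS.pw_add, neg_add_cancel, h.hS.pw_zero, one_smul] at h3
    rwa [show -i + a * i = (a - 1) * i by ring] at h3
  rcases eq_or_ne i 0 with rfl | hi
  · rw [h.hS.pw_zero, one_smul]
  · exact pw_smul_cancel h (mul_ne_zero (sub_ne_zero.mpr (alpha_ne_one h hl)) hi) h2 i

include d

theorem two_le_e : 2 ≤ e := by
  classical
  have := Fintype.ofFinite (IrrCharacter G)
  have he := e_pos h.toCore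
  by_contra h2
  have hc := card_plus_minus h.toCore d
  obtain ⟨c⟩ := (inferInstance : Nonempty ((ZMod p)ˣ ⧸ U h.hS (oneK x L : K x L → ℂ)))
  have hr := rel_one h d c
  rw [show (Plus h.toCore d).card = 0 by omega, show (Minus h.toCore d).card = 0 by omega, Nat.cast_zero, zero_mul, zero_mul,
    sub_zero, add_zero] at hr
  have := deg_ge_two h.toCore (exc_ne_one h.toCore d c)
  rcases d.hε with h3 | h3 <;> rw [h3] at hr <;> omega

theorem exists_ne_one_L : ∃ l : L, l ≠ 1 := by
  haveI : Nontrivial L := Finite.one_lt_card_iff_nontrivial.mp (by rw [h.he]; exact two_le_e h d)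
  exact exists_ne 1

variable [Fintype (IrrCharacter G)] [Fintype (IrrCharacter L)]

theorem a_principal_out {χ : IrrCharacter G} (hB : χ ∉ principalBlock M G) : a h (oneL L) χ = m0 h.toCore χ := by
  classical
  rw [← sum_a h χ, Finset.sum_eq_single (oneL L) (fun μ _ hμ => ?_) (fun h' => absurd (Finset.mem_univ _) h')]
  refine (ind_nonprincipal_spec h d hμ).1 χ (fun hc => hB ((mem_Plus h.toCore d).mp hc).1) ?_
  rintro ⟨c, rfl⟩
  exact hB (d.excB c)

theorem sum_a_sq : ∑ χ : IrrCharacter G, a h (oneL L) χ ^ 2 = n + 1 := by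
  classical
  have hd := sum_a_deg h (oneL L)
  rw [← Finset.add_sum_erase _ _ (Finset.mem_univ (oneG G)), a_oneG h, if_pos rfl, one_mul,
    show charDegree ((oneG G : IrrCharacter G) : G → ℂ) = 1 from
      Nat.cast_injective (R := ℂ) (by rw [charDegree_cast, Nat.cast_one]; rfl)] at hd
  rw [← Finset.add_sum_erase _ _ (Finset.mem_univ (oneG G)), a_oneG h, if_pos rfl, one_pow]
  have key : ∀ χ ∈ Finset.univ.erase (oneG G), a h (oneL L) χ * charDegree (χ : G → ℂ) = a h (oneL L) χ ^ 2 * p := by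
    intro χ hχ
    by_cases hB : χ ∈ principalBlock M G
    · rw [ind_principal_spec h d χ (Finset.ne_of_mem_erase hχ) hB, zero_mul, zero_pow two_ne_zero, zero_mul]
    · have he := excess_out h.toCore d hB
      rw [excess, sub_eq_zero] at he
      have he' : p * m0 h.toCore χ = charDegree (χ : G → ℂ) := by exact_mod_cast he
      rw [← he', ← a_principal_out h d hB]
      ring
  rw [Finset.sum_congr rfl key, ← Finset.sum_mul] at hd
  have h2 : (∑ χ ∈ Finset.univ.erase (oneG G), a h (oneL L) χ ^ 2) * p = n * p := by omega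
  have := Nat.eq_of_mul_eq_mul_right h.hS.hp.pos h2
  omega

theorem ind_principal_apply (g : G) :
    ind h (oneL L) g = (Nat.card (MulAction.fixedBy (G ⧸ Nr x) g) : ℂ) := by
  rw [← Char.indFun_one_eq_fixedPoints]
  rfl

/-- The orbits of `⟨x⟩` and of its normalizer agree. -/
theorem exists_pw_smul {m : G} (hm : m ∈ Nr x) (q : G ⧸ Nr x) : ∃ i : ZMod p, m • q = pw x i • q := by
  classical
  haveI := Fintype.ofFinite (Subgroup.zpowers x)
  have hN : Nat.card (MulAction.orbitRel.Quotient (Nr x) (G ⧸ Nr x)) = n + 1 := by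
    apply Nat.cast_injective (R := ℂ)
    rw [← Char.classInner_fixedPoints_one, ← sum_a_sq h d, Nat.cast_sum]
    have h1 := Char.frobenius_reciprocity' (Nr x) (fun m => (oneL L : L → ℂ) (ell h.toCore m))
      (Char.IsCharacter.isClassFunction (isCharacter_ind h (oneL L)))
    rw [show indFun (Nr x) (fun m => (oneL L : L → ℂ) (ell h.toCore m)) = ind h (oneL L) from rfl] at h1
    refine Eq.trans ?_ (h1.symm.trans ?_)
    · refine congrArg₂ classInner (funext fun m => ?_) rfl
      exact (ind_principal_apply h d _).symm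
    · conv_lhs => arg 2; rw [ind_eq_sum h]
      rw [Char.classInner_sum_right]
      refine Finset.sum_congr rfl fun χ _ => ?_
      rw [Char.classInner_smul_right, a_spec h, Complex.conj_natCast, Nat.cast_pow, pow_two]
  have hP : Nat.card (MulAction.orbitRel.Quotient (Subgroup.zpowers x) (G ⧸ Nr x)) = n + 1 := by
    apply Nat.cast_injective (R := ℂ)
    rw [← Char.classInner_fixedPoints_one, classInner, h.hS.card_zpowers_eq]
    simp only [Pi.one_apply, map_one, mul_one]
    rw [← Fintype.sum_bijective (fun i : ZMod p => (⟨pw x i, h.hS.pw_mem i⟩ : Subgroup.zpowers x))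
      ⟨fun i j e => h.hS.pw_inj (congrArg Subtype.val e :),
        fun u => (h.hS.exists_pw u.2).imp fun i hi => Subtype.ext hi.symm⟩
      (fun i => ind h (oneL L) (pw x i)) _ (fun i => ind_principal_apply h d _),
      sum_ind_pw h, Nat.cast_mul, inv_mul_cancel_left₀ (Nat.cast_ne_zero.mpr h.hS.hp.ne_zero)]
  let F : MulAction.orbitRel.Quotient (Subgroup.zpowers x) (G ⧸ Nr x) → MulAction.orbitRel.Quotient (Nr x) (G ⧸ Nr x) :=
    Quotient.map' id (fun a b hab => by
      obtain ⟨u, hu⟩ := MulAction.orbitRel_apply.mp hab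
      exact MulAction.orbitRel_apply.mpr ⟨⟨u.1, Subgroup.le_normalizer u.2⟩, hu⟩)
  have hF : Function.Surjective F := fun b => Quotient.inductionOn' b fun q => ⟨Quotient.mk'' q, rfl⟩
  have hFi : Function.Injective F := ((Nat.bijective_iff_surjective_and_card F).mpr ⟨hF, hP.trans hN.symm⟩).1
  have heq : F (Quotient.mk'' (m • q)) = F (Quotient.mk'' q) :=
    Quotient.sound' (MulAction.orbitRel_apply.mpr ⟨⟨m, hm⟩, rfl⟩)
  obtain ⟨u, hu⟩ := MulAction.orbitRel_apply.mp (Quotient.eq''.mp (hFi heq))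
  obtain ⟨i, hi⟩ := h.hS.exists_pw u.2
  exact ⟨i, hu.symm.trans (congrArg (· • q) hi)⟩

/-- Every `⟨x⟩`-orbit has a point fixed by the complement. -/
theorem exists_fixed (q : G ⧸ Nr x) : ∃ j : ZMod p, ∀ l : L, (l : G) • pw x j • q = pw x j • q := by
  obtain ⟨l, hl⟩ := exists_ne_one_L h d
  obtain ⟨i, hi⟩ := exists_pw_smul h d (h.hS.hL l.2) q
  set m : Nr x := ⟨pw x (-i) * (l : G), Subgroup.mul_mem _ (Subgroup.le_normalizer (h.hS.pw_mem _)) (h.hS.hL l.2)⟩
  have hmq : (m : G) • q = q := by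
    show (pw x (-i) * (l : G)) • q = q
    rw [mul_smul, hi, ← mul_smul, ← h.hS.pw_add, neg_add_cancel, h.hS.pw_zero, one_smul]
  obtain ⟨j, hj⟩ := exists_conj_eq h.toCore (m := m) (by rw [ell_mul_pw h.toCore]; exact hl)
  rw [ell_mul_pw h.toCore] at hj
  refine ⟨-j, ?_⟩
  have hinv : pw x (-j) = (pw x j)⁻¹ :=
    eq_inv_of_mul_eq_one_left (by rw [← h.hS.pw_add, neg_add_cancel, h.hS.pw_zero])
  have hl0 : (l : G) • pw x (-j) • q = pw x (-j) • q := by
    have h1 : (l : G) = (pw x j)⁻¹ * (m : G) * pw x j := by rw [hj]; group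
    rw [h1, hinv, mul_smul, mul_smul, smul_inv_smul, hmq]
  intro l'
  have h1 : (l : G) • (l' : G) • pw x (-j) • q = (l' : G) • pw x (-j) • q := by
    rw [← mul_smul, ← Subgroup.coe_mul, L_comm h.toCore l l', Subgroup.coe_mul, mul_smul, hl0]
  obtain ⟨k, hk⟩ := exists_pw_smul h d (h.hS.hL l'.2) (pw x (-j) • q)
  rw [hk] at h1
  rw [hk]
  exact fixed_unique h hl hl0 h1

/-- A nontrivial element of the complement and the complement have the same fixed points. -/
theorem fix_L {l : L} (hl : l ≠ 1) {q : G ⧸ Nr x} (hq : (l : G) • q = q) (l' : L) : (l' : G) • q = q := by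
  obtain ⟨j, hj⟩ := exists_fixed h d q
  have := fixed_unique h hl hq (hj l)
  rw [← this]
  exact hj l'

theorem card_fix {l : L} (hl : l ≠ 1) : Nat.card (MulAction.fixedBy (G ⧸ Nr x) (l : G)) = n + 1 := by
  classical
  haveI := Fintype.ofFinite (Subgroup.zpowers x)
  have hP : Nat.card (MulAction.orbitRel.Quotient (Subgroup.zpowers x) (G ⧸ Nr x)) = n + 1 := by
    apply Nat.cast_injective (R := ℂ)
    rw [← Char.classInner_fixedPoints_one, classInner, h.hS.card_zpowers_eq]
    simp only [Pi.one_apply, map_one, mul_one]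
    rw [← Fintype.sum_bijective (fun i : ZMod p => (⟨pw x i, h.hS.pw_mem i⟩ : Subgroup.zpowers x))
      ⟨fun i j e => h.hS.pw_inj (congrArg Subtype.val e :),
        fun u => (h.hS.exists_pw u.2).imp fun i hi => Subtype.ext hi.symm⟩
      (fun i => ind h (oneL L) (pw x i)) _ (fun i => ind_principal_apply h d _),
      sum_ind_pw h, Nat.cast_mul, inv_mul_cancel_left₀ (Nat.cast_ne_zero.mpr h.hS.hp.ne_zero)]
  rw [← hP]
  refine Nat.card_eq_of_bijective (fun q => Quotient.mk'' q.1) ⟨fun a b hab => ?_, fun b => ?_⟩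
  · obtain ⟨u, hu⟩ := MulAction.orbitRel_apply.mp (Quotient.eq''.mp hab)
    obtain ⟨i, hi⟩ := h.hS.exists_pw u.2
    have hu' : pw x i • b.1 = a.1 := (congrArg (· • b.1) hi).symm.trans hu
    have := fixed_unique h hl b.2 (by rw [hu']; exact a.2)
    exact Subtype.ext (hu'.symm.trans this)
  · induction b using Quotient.inductionOn' with
    | h q =>
      obtain ⟨j, hj⟩ := exists_fixed h d q
      exact ⟨⟨pw x j • q, hj l⟩, Quotient.sound' (MulAction.orbitRel_apply.mpr ⟨⟨pw x j, h.hS.pw_mem j⟩, rfl⟩)⟩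

theorem mem_L_of_mem {m : G} (hN : m ∈ Nr x) (hM : m ∈ Mn L) : m ∈ L := by
  obtain ⟨l, hl⟩ := exists_ne_one_L h d
  obtain ⟨i, hi⟩ := exists_pw_mul h.toCore ⟨m, hN⟩
  set l' := ell h.toCore ⟨m, hN⟩
  have hu : pw x i ∈ Mn L := by
    have h2 : pw x i = m * (l' : G)⁻¹ := by rw [show m = pw x i * (l' : G) from hi]; group
    rw [h2]
    exact mul_mem hM (inv_mem (Subgroup.le_normalizer l'.2))
  have h1 : pw x i * (l : G) * (pw x i)⁻¹ * (l : G)⁻¹ = 1 := by
    refine eq_one_of_mem h.toCore (mul_mem ((Subgroup.mem_normalizer_iff.mp hu _).mp l.2) (inv_mem l.2)) ?_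
    have h2 : (l : G) * (pw x i)⁻¹ * (l : G)⁻¹ ∈ Subgroup.zpowers x :=
      (Subgroup.mem_normalizer_iff.mp (h.hS.hL l.2) _).mp (inv_mem (h.hS.pw_mem i))
    rw [show pw x i * (l : G) * (pw x i)⁻¹ * (l : G)⁻¹ = pw x i * ((l : G) * (pw x i)⁻¹ * (l : G)⁻¹) by group]
    exact mul_mem (h.hS.pw_mem i) h2
  have hcm : Commute (pw x i) (l : G) := by
    rw [mul_inv_eq_one, mul_inv_eq_iff_eq_mul] at h1
    exact h1
  rw [pw_comm_L h hl hcm, h.hS.pw_zero, one_mul] at hi
  rw [show m = (l' : G) from hi]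
  exact l'.2

theorem fixed_iff {g : G} : (∀ l : L, (l : G) • g • base x = g • base x) ↔ ∃ m ∈ Mn L, m • base x = g • base x := by
  constructor
  · intro hfix
    obtain ⟨l, hl⟩ := exists_ne_one_L h d
    have hmem : ∀ l : L, g⁻¹ * (l : G) * g ∈ Nr x := fun l => by
      have := hfix l
      rw [← mul_smul, eq_comm, smul_base_eq, ← mul_assoc] at this
      exact this
    let y : L → Nr x := fun l => ⟨g⁻¹ * (l : G) * g, hmem l⟩
    have hy : ell h.toCore (y l) ≠ 1 := by
      intro h1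
      obtain ⟨i, hi⟩ := h.hS.exists_pw ((ell_eq_one_iff h.toCore _).mp h1)
      have ho : orderOf (l : G) = orderOf (pw x i) := by
        rw [← hi, show ((y l : Nr x) : G) = g⁻¹ * (l : G) * g⁻¹⁻¹ by rw [inv_inv], SecondMain.orderOf_conj]
      rcases eq_or_ne i 0 with rfl | hi0
      · rw [h.hS.pw_zero, orderOf_one, orderOf_eq_one_iff] at ho
        exact hl (Subtype.ext ho)
      · exact h.hS.regular_L l (by rw [ho, h.hS.orderOf_pw hi0])
    obtain ⟨j, hj⟩ := exists_conj_eq h.toCore hy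
    set l₀ := ell h.toCore (y l)
    refine ⟨g * pw x j, ?_, (smul_base_eq).mpr (by
      rw [mul_inv_rev, inv_mul_cancel_right]
      exact inv_mem (Subgroup.le_normalizer (h.hS.pw_mem j)))⟩
    rw [← inv_mem_iff (H := Mn L)]
    refine Subgroup.mem_normalizer_fintype fun k hk => ?_
    set z : G := (g * pw x j)⁻¹ * k * (g * pw x j)⁻¹⁻¹ with hz
    have hzN : z ∈ Nr x := by
      have e1 : z = (pw x j)⁻¹ * (g⁻¹ * k * g) * pw x j := by rw [hz]; group
      rw [e1]
      exact mul_mem (mul_mem (inv_mem (Subgroup.le_normalizer (h.hS.pw_mem j))) (hmem ⟨k, hk⟩))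
        (Subgroup.le_normalizer (h.hS.pw_mem j))
    have hl0 : (g * pw x j)⁻¹ * (l : G) * (g * pw x j)⁻¹⁻¹ = (l₀ : G) := by
      have e1 : ((y l : Nr x) : G) = g⁻¹ * (l : G) * g := rfl
      rw [e1] at hj
      calc (g * pw x j)⁻¹ * (l : G) * (g * pw x j)⁻¹⁻¹ = (pw x j)⁻¹ * (g⁻¹ * (l : G) * g) * pw x j := by group
        _ = (l₀ : G) := by rw [hj]; group
    have hcomm : Commute z (l₀ : G) := by
      rw [← hl0, hz]
      have hc : Commute k (l : G) := congrArg Subtype.val (L_comm h.toCore ⟨k, hk⟩ l)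
      exact (Commute.conj_iff _).mpr hc
    obtain ⟨i, hi⟩ := exists_pw_mul h.toCore ⟨z, hzN⟩
    set l₁ := ell h.toCore ⟨z, hzN⟩
    have hi' : z = pw x i * (l₁ : G) := hi
    have hcp : Commute (pw x i) (l₀ : G) := by
      have hc2 : Commute (l₁ : G) (l₀ : G) := congrArg Subtype.val (L_comm h.toCore l₁ l₀)
      rw [show pw x i = z * (l₁ : G)⁻¹ by rw [hi']; group]
      exact hcomm.mul_left hc2.inv_left
    rw [pw_comm_L h hy hcp, h.hS.pw_zero, one_mul] at hi'
    show z ∈ (L : Set G)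
    rw [hi']
    exact l₁.2
  · rintro ⟨m, hm, hmg⟩ l
    rw [← hmg, ← mul_smul, eq_comm, smul_base_eq, ← mul_assoc]
    exact h.hS.hL ((Subgroup.mem_normalizer_iff''.mp hm _).mp l.2)

theorem card_M : Nat.card (Mn L) = (n + 1) * e := by
  classical
  obtain ⟨l, hl⟩ := exists_ne_one_L h d
  haveI := Fintype.ofFinite (MulAction.orbit (Mn L) (base x))
  haveI := Fintype.ofFinite (Mn L)
  haveI := Fintype.ofFinite (MulAction.stabilizer (Mn L) (base x))
  have h1 := MulAction.card_orbit_mul_card_stabilizer_eq_card_group (Mn L) (base x)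
  simp only [← Nat.card_eq_fintype_card] at h1
  rw [← h1]
  congr 1
  · rw [← card_fix h d hl]
    refine Nat.card_congr (Equiv.setCongr (Set.ext fun q => ?_))
    obtain ⟨g, rfl⟩ : ∃ g : G, g • base x = q :=
      ⟨q.out, (show ((q.out * 1 : G) : G ⧸ Nr x) = q by rw [mul_one, QuotientGroup.out_eq'])⟩
    constructor
    · rintro ⟨m, hm⟩
      exact (fixed_iff h d).mpr ⟨m.1, m.2, hm⟩ l
    · intro hq
      obtain ⟨m, hm, hmg⟩ := (fixed_iff h d).mp (fun l' => fix_L h d hl hq l')
      exact ⟨⟨m, hm⟩, hmg⟩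
  · rw [← h.he]
    refine Nat.card_congr
      { toFun := fun m => ⟨m.1.1, mem_L_of_mem h d (smul_base_self.mp m.2) m.1.2⟩
        invFun := fun l' => ⟨⟨l'.1, Subgroup.le_normalizer l'.2⟩, smul_base_self.mpr (h.hS.hL l'.2)⟩
        left_inv := fun m => rfl
        right_inv := fun l' => rfl }

theorem card_centralizer_le {l : L} (hl : l ≠ 1) :
    Nat.card (Subgroup.centralizer ({(l : G)} : Set G)) ≤ (n + 1) * e := by
  classical
  set C := Subgroup.centralizer ({(l : G)} : Set G)
  haveI := Fintype.ofFinite (MulAction.orbit C (base x))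
  haveI := Fintype.ofFinite C
  haveI := Fintype.ofFinite (MulAction.stabilizer C (base x))
  have h1 := MulAction.card_orbit_mul_card_stabilizer_eq_card_group C (base x)
  simp only [← Nat.card_eq_fintype_card] at h1
  rw [← h1, ← card_fix h d hl, ← h.he]
  refine Nat.mul_le_mul (Nat.card_mono (Set.toFinite _) ?_) ?_
  · rintro q ⟨c, rfl⟩
    show (l : G) • (c : G) • base x = (c : G) • base x
    rw [← mul_smul, ← (Subgroup.mem_centralizer_singleton_iff.mp c.2 : (c : G) * (l : G) = (l : G) * (c : G)),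
      mul_smul, smul_base_self.mpr (h.hS.hL l.2)]
  · refine Nat.card_le_card_of_injective
      (fun c : MulAction.stabilizer C (base x) => (⟨c.1.1, ?_⟩ : L)) fun a b e => Subtype.ext (Subtype.ext (congrArg (fun z : L => (z : G)) e :))
    obtain ⟨i, hi⟩ := exists_pw_mul h.toCore ⟨c.1.1, smul_base_self.mp c.2⟩
    set l' := ell h.toCore ⟨c.1.1, smul_base_self.mp c.2⟩
    have hi' : c.1.1 = pw x i * (l' : G) := hi
    have hcm : Commute (pw x i) (l : G) := by
      have hc1 : Commute c.1.1 (l : G) := Subgroup.mem_centralizer_singleton_iff.mp c.1.2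
      have hc2 : Commute (l' : G) (l : G) := congrArg Subtype.val (L_comm h.toCore l' l)
      rw [show pw x i = c.1.1 * (l' : G)⁻¹ by rw [hi']; group]
      exact hc1.mul_left hc2.inv_left
    rw [hi', pw_comm_L h hl hcm, h.hS.pw_zero, one_mul]
    exact l'.2

omit d in
/-- Conjugation of the complement by an element of its normalizer. -/
def conjL (L : Subgroup G) (m : Mn L) : L ≃* L where
  toFun l := ⟨(m : G)⁻¹ * l * m, (Subgroup.mem_normalizer_iff''.mp m.2 _).mp l.2⟩
  invFun l := ⟨(m : G) * l * (m : G)⁻¹, (Subgroup.mem_normalizer_iff.mp m.2 _).mp l.2⟩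
  left_inv l := Subtype.ext (by simp [mul_assoc])
  right_inv l := Subtype.ext (by simp [mul_assoc])
  map_mul' a b := Subtype.ext (by simp [mul_assoc])

open scoped Classical in
theorem ind_apply_L (μ : IrrCharacter L) {l : L} (hl : l ≠ 1) :
    (e : ℂ) * ind h μ (l : G) = ∑ m : Mn L, (μ : L → ℂ) (conjL L m l) := by
  classical
  let T : Mn L × ZMod p → G := fun mi => mi.1.1 * pw x mi.2
  have hT : Function.Injective T := by
    rintro ⟨m, i⟩ ⟨m', j⟩ heq
    have h1 : (m'.1)⁻¹ * m.1 = pw x j * (pw x i)⁻¹ := by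
      have heq' : m.1 * pw x i = m'.1 * pw x j := heq
      rw [eq_mul_inv_iff_mul_eq, mul_assoc, heq', inv_mul_cancel_left]
    have hP : pw x j * (pw x i)⁻¹ ∈ Subgroup.zpowers x := mul_mem (h.hS.pw_mem j) (inv_mem (h.hS.pw_mem i))
    have hL' : (m'.1)⁻¹ * m.1 ∈ L :=
      mem_L_of_mem h d (h1 ▸ Subgroup.le_normalizer hP) (mul_mem (inv_mem m'.2) m.2)
    have h2 := eq_one_of_mem h.toCore hL' (h1 ▸ hP)
    have hm : m' = m := Subtype.ext (inv_mul_eq_one.mp h2)
    rw [h2, eq_comm, mul_inv_eq_one] at h1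
    exact Prod.ext hm.symm (h.hS.pw_inj h1).symm
  rw [ind, indFun, card_Nr h.toCore]
  have hsum : ∑ g : G, extendByZero (Nr x) (fun m => (μ : L → ℂ) (ell h.toCore m)) (g⁻¹ * (l : G) * g) =
      (p : ℂ) * ∑ m : Mn L, (μ : L → ℂ) (conjL L m l) := by
    rw [← Finset.sum_subset (Finset.subset_univ (Finset.univ.image T)) (fun g _ hg => ?_),
      Finset.sum_image (fun a _ b _ e => hT e), Fintype.sum_prod_type, Finset.mul_sum]
    · refine Finset.sum_congr rfl fun m _ => ?_
      rw [Finset.sum_congr rfl (g := fun _ => (μ : L → ℂ) (conjL L m l)) fun i _ => ?_, Finset.sum_const,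
        Finset.card_univ, ZMod.card, nsmul_eq_mul]
      have hmem : (m.1 * pw x i)⁻¹ * (l : G) * (m.1 * pw x i) =
          ((⟨pw x i, Subgroup.le_normalizer (h.hS.pw_mem i)⟩⁻¹ * Subgroup.inclusion h.hS.hL (conjL L m l) *
            ⟨pw x i, Subgroup.le_normalizer (h.hS.pw_mem i)⟩ : Nr x) : G) := by
        show _ = (pw x i)⁻¹ * ((m : G)⁻¹ * (l : G) * m) * pw x i
        group
      show extendByZero (Nr x) _ ((m.1 * pw x i)⁻¹ * (l : G) * (m.1 * pw x i)) = _
      rw [hmem, Char.extendByZero_coe, map_mul, map_mul, map_inv,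
        (ell_eq_one_iff h.toCore ⟨pw x i, _⟩).mpr (h.hS.pw_mem i), inv_one, one_mul, mul_one, ell_coe h.toCore]
    · rw [Char.extendByZero_eq, dif_neg]
      intro hmem
      refine hg ?_
      have hfix : (l : G) • g • base x = g • base x := by
        rw [← mul_smul, eq_comm, smul_base_eq, ← mul_assoc]
        exact hmem
      obtain ⟨m, hm, hmg⟩ := (fixed_iff h d).mp (fun l' => fix_L h d hl hfix l')
      obtain ⟨i, hi⟩ := exists_pw_mul h.toCore ⟨m⁻¹ * g, smul_base_eq.mp hmg⟩
      set l' := ell h.toCore ⟨m⁻¹ * g, smul_base_eq.mp hmg⟩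
      have hi' : m⁻¹ * g = pw x i * (l' : G) := hi
      have hconj : (l' : G)⁻¹ * pw x i * l' ∈ Subgroup.zpowers x :=
        (Subgroup.mem_normalizer_iff''.mp (h.hS.hL l'.2) _).mp (h.hS.pw_mem i)
      obtain ⟨k, hk⟩ := h.hS.exists_pw hconj
      refine Finset.mem_image.mpr ⟨(⟨m * (l' : G), mul_mem hm (Subgroup.le_normalizer l'.2)⟩, k), Finset.mem_univ _, ?_⟩
      show m * (l' : G) * pw x k = g
      rw [← hk, inv_mul_eq_iff_eq_mul.mp hi']
      group
  rw [hsum, Nat.cast_mul, mul_inv, mul_assoc, inv_mul_cancel_left₀ (Nat.cast_ne_zero.mpr h.hS.hp.ne_zero),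
    mul_inv_cancel_left₀ (Nat.cast_ne_zero.mpr (Nat.one_le_iff_ne_zero.mp (e_pos h.toCore)))]

set_option maxHeartbeats 800000 in
/-- The inner products of the induced characters count elements of the normalizer of the complement. -/
theorem inner_ind (μ ν : IrrCharacter L) :
    (e : ℂ) * classInner (ind h μ) (ind h ν) =
      (Nat.card {m : Mn L // ∀ l : L, (μ : L → ℂ) (conjL L m l) = (ν : L → ℂ) l} : ℂ) := by
  classical
  have h1 := Char.frobenius_reciprocity' (Nr x) (fun m => (ν : L → ℂ) (ell h.toCore m))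
    (Char.IsCharacter.isClassFunction (isCharacter_ind h μ))
  rw [show indFun (Nr x) (fun m => (ν : L → ℂ) (ell h.toCore m)) = ind h ν from rfl] at h1
  have hfib : ∀ l : L, (Finset.univ.filter fun m : Nr x => ell h.toCore m = l) = Finset.univ.image (fun i : ZMod p =>
      (⟨pw x i * (l : G), Subgroup.mul_mem _ (Subgroup.le_normalizer (h.hS.pw_mem i)) (h.hS.hL l.2)⟩ : Nr x)) := by
    intro l
    ext m
    simp only [Finset.mem_filter, Finset.mem_univ, true_and, Finset.mem_image]
    constructor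
    · intro hm
      obtain ⟨i, hi⟩ := exists_pw_mul h.toCore m
      rw [hm] at hi
      exact ⟨i, Subtype.ext hi.symm⟩
    · rintro ⟨i, rfl⟩
      exact ell_mul_pw h.toCore i l
  have hsum : ∀ l : L, ∑ m ∈ Finset.univ.filter (fun m : Nr x => ell h.toCore m = l), ind h μ (m : G) * conj ((ν : L → ℂ) (ell h.toCore m)) =
      if l = 1 then ((p * (n + 1) : ℕ) : ℂ) else (p : ℂ) * (ind h μ (l : G) * conj ((ν : L → ℂ) l)) := by
    intro l
    rw [hfib l, Finset.sum_image]
    swap
    · intro i _ j _ e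
      exact h.hS.pw_inj (mul_right_cancel (congrArg (fun z : Nr x => (z : G)) e :))
    simp only [ell_mul_pw h.toCore]
    split_ifs with hl
    · subst hl
      rw [irr_L_one h.toCore, map_one]
      simp only [mul_one, OneMemClass.coe_one]
      exact sum_ind_pw h μ
    · rw [Finset.sum_congr rfl (g := fun _ => ind h μ (l : G) * conj ((ν : L → ℂ) l)) (fun i _ => ?_), Finset.sum_const,
        Finset.card_univ, ZMod.card, nsmul_eq_mul]
      obtain ⟨j, hj⟩ := exists_conj_eq h.toCore (m := ⟨pw x i * (l : G), Subgroup.mul_mem _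
        (Subgroup.le_normalizer (h.hS.pw_mem i)) (h.hS.hL l.2)⟩) (by rw [ell_mul_pw h.toCore]; exact hl)
      rw [ell_mul_pw h.toCore] at hj
      rw [show pw x i * (l : G) = pw x j * (l : G) * (pw x j)⁻¹ from hj,
        Char.IsCharacter.isClassFunction (isCharacter_ind h μ)]
  rw [h1, classInner, card_Nr h.toCore, ← Finset.sum_fiberwise_of_maps_to (t := (Finset.univ : Finset L)) (g := ell h.toCore)
    (fun _ _ => Finset.mem_univ _), Finset.sum_congr rfl fun l _ => hsum l]
  have horth : ∀ m : Mn L, ∑ l : L, (μ : L → ℂ) (conjL L m l) * conj ((ν : L → ℂ) l) =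
      if ∀ l : L, (μ : L → ℂ) (conjL L m l) = (ν : L → ℂ) l then (e : ℂ) else 0 := by
    intro m
    have h2 := Char.classInner_irr (Char.IsIrrCharacter.comp_equiv μ.2 (conjL L m)) ν.2
    have h3 := Char.card_mul_classInner (fun l => (μ : L → ℂ) (conjL L m l)) (ν : L → ℂ)
    rw [← h3, h2, h.he]
    by_cases hh : ∀ l : L, (μ : L → ℂ) (conjL L m l) = (ν : L → ℂ) l
    · rw [if_pos (funext hh), if_pos hh, mul_one]
    · rw [if_neg (fun e => hh (congrFun e)), if_neg hh, mul_zero]
  set T := Finset.univ.filter (fun m : Mn L => ∀ l : L, (μ : L → ℂ) (conjL L m l) = (ν : L → ℂ) l) with hTdef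
  rw [Nat.card_eq_fintype_card, Fintype.card_subtype, ← hTdef]
  have hkey : (e : ℂ) * ∑ l : L, (if l = 1 then ((p * (n + 1) : ℕ) : ℂ) else (p : ℂ) * (ind h μ (l : G) * conj ((ν : L → ℂ) l))) =
      (p : ℂ) * ((e : ℂ) * T.card) := by
    rw [Finset.mul_sum, Finset.sum_congr rfl (g := fun l : L =>
      (p : ℂ) * ∑ m : Mn L, (μ : L → ℂ) (conjL L m l) * conj ((ν : L → ℂ) l)) fun l _ => ?_,
      ← Finset.mul_sum, Finset.sum_comm, Finset.sum_congr rfl (fun m _ => horth m), ← Finset.sum_filter, ← hTdef,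
      Finset.sum_const, nsmul_eq_mul, mul_comm (T.card : ℂ)]
    split_ifs with hl
    · subst hl
      simp only [map_one, irr_L_one h.toCore, mul_one, Finset.sum_const, Finset.card_univ, nsmul_eq_mul]
      rw [← Nat.card_eq_fintype_card, card_M h d]
      push_cast
      ring
    · rw [← Finset.sum_mul, ← ind_apply_L h d μ hl]
      ring
  have hep : ((e * p : ℕ) : ℂ) ≠ 0 := Nat.cast_ne_zero.mpr (Nat.mul_pos (e_pos h.toCore) h.hS.hp.pos).ne'
  rw [← mul_assoc, mul_comm (e : ℂ) (((e * p : ℕ) : ℂ))⁻¹, mul_assoc, hkey, ← mul_assoc (p : ℂ),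
    mul_comm (p : ℂ) (e : ℂ), ← Nat.cast_mul e p, inv_mul_cancel_left₀ hep]

end Cfsg.Agent.BrauerFewSylow
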