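/-
Few Sylow subgroups: the structure when there are more than `p + 1` of them (namespace `Cfsg.Agent.BrauerFewSylow`).

Main results: `succ_dvd`, `sign_neg`, `param`, `exists_special`, `values_at_involution`, `structure_of_two_le`.
-/
import Cfsg.Agent.Lib.BrauerFewSylow.Orbit
import Cfsg.Agent.Lib.Char.ClassMult
import Cfsg.Agent.Lib.TwoClassChar.Basic
import Cfsg.Agent.Lib.CentralChar.Fixed
import Mathlib.RingTheory.IntegralDomain
import Mathlib.RingTheory.RootsOfUnity.Complex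

set_option autoImplicit false
set_option linter.unusedSectionVars false
set_option linter.style.haveILetI false

open scoped ComplexConjugate

namespace Cfsg.Agent.BrauerFewSylow

open Cfsg Cfsg.Agent.Blocks Cfsg.Agent.CyclicDefect

variable {G : Type*} [Group G] [Fintype G] {p : ℕ} [Fact p.Prime] {x : G} {L : Subgroup G}
  {e t n : ℕ} (h : Ctx p x L e t n)
include h

theorem irr_L_mul (μ : IrrCharacter L) (a b : L) : (μ : L → ℂ) (a * b) = (μ : L → ℂ) a * (μ : L → ℂ) b := by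
  obtain ⟨f, hf⟩ := irr_L_hom h.toCore μ
  rw [← hf, map_mul]

theorem irr_L_pow (μ : IrrCharacter L) (a : L) (k : ℕ) : (μ : L → ℂ) (a ^ k) = (μ : L → ℂ) a ^ k := by
  obtain ⟨f, hf⟩ := irr_L_hom h.toCore μ
  rw [← hf, map_pow]

theorem exists_gen : ∃ g : L, ∀ l : L, l ∈ Subgroup.zpowers g := by
  haveI : IsCyclic L := isCyclic_of_subgroup_isDomain ((Units.coeHom (ZMod p)).comp (CyclicDefect.alpha h.hS))
    (fun a b hab => alpha_injective h.toCore (Units.ext hab))
  exact IsCyclic.exists_generator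

theorem lin_ext {g : L} (hg : ∀ l : L, l ∈ Subgroup.zpowers g) {μ ν : IrrCharacter L}
    (hgen : (μ : L → ℂ) g = (ν : L → ℂ) g) : μ = ν := by
  refine Subtype.ext (funext fun l => ?_)
  obtain ⟨k, rfl⟩ := (mem_powers_iff_mem_zpowers (x := g) (y := l)).mpr (hg l)
  rw [irr_L_pow h, irr_L_pow h, hgen]

theorem orderOf_gen {g : L} (hg : ∀ l : L, l ∈ Subgroup.zpowers g) : orderOf g = e := by
  rw [← h.he, ← Nat.card_zpowers, (Subgroup.eq_top_iff' _).mpr hg, Subgroup.card_top]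

theorem exists_lin {g : L} (hg : ∀ l : L, l ∈ Subgroup.zpowers g) {z : ℂ} (hz : z ^ e = 1) :
    ∃ μ : IrrCharacter L, (μ : L → ℂ) g = z := by
  have hz0 : z ≠ 0 := fun h0 => by
    rw [h0, zero_pow (Nat.one_le_iff_ne_zero.mp (e_pos h.toCore))] at hz
    exact zero_ne_one hz
  have hd : orderOf (Units.mk0 z hz0) ∣ orderOf g := by
    rw [orderOf_gen h hg]
    exact orderOf_dvd_of_pow_eq_one (Units.ext (by simpa using hz))
  refine ⟨⟨((Units.coeHom ℂ).comp (monoidHomOfForallMemZpowers hg hd) : L →* ℂ),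
    Char.isIrrCharacter_of_hom _⟩, ?_⟩
  show ((monoidHomOfForallMemZpowers hg hd g : ℂˣ) : ℂ) = z
  rw [monoidHomOfForallMemZpowers_apply_gen]
  rfl

omit h in
theorem conjL_mul (m m' : Mn L) (l : L) : conjL L (m * m') l = conjL L m' (conjL L m l) :=
  Subtype.ext (show ((m * m' : Mn L) : G)⁻¹ * (l : G) * ((m * m' : Mn L) : G) =
    (m' : G)⁻¹ * ((m : G)⁻¹ * (l : G) * m) * m' by push_cast; group)

theorem conjL_of_mem {m : Mn L} (hm : (m : G) ∈ L) (l : L) : conjL L m l = l := Subtype.ext (by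
  show (m : G)⁻¹ * (l : G) * m = (l : G)
  have := congrArg Subtype.val (L_comm h.toCore l ⟨m, hm⟩)
  rw [mul_assoc, show (l : G) * (m : G) = (m : G) * (l : G) from this, inv_mul_cancel_left])

variable {M : Ideal AlgInt} (d : Data h.toCore M)
include d

theorem five_le [Fintype (IrrCharacter G)] (hn2 : 2 ≤ n) : 5 ≤ p := by
  have hp := h.hS.hp
  have hp3 := h.hp3
  by_contra hp5
  rcases (show p = 3 ∨ p = 4 by omega) with h3 | h4
  · have he := two_le_e h d
    have hte := h.hte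
    have hn' := h.hn
    have ht := t_pos h.toCore
    have hte' : t * e = 2 := by omega
    have he2 : e = 2 := by
      have := Nat.le_mul_of_pos_left e ht
      omega
    have ht1 : t = 1 := by rw [he2] at hte'; omega
    have hn : n = 2 := by omega
    obtain ⟨c⟩ := (inferInstance : Nonempty ((ZMod p)ˣ ⧸ U h.hS (oneK x L : K x L → ℂ)))
    have hc := card_plus_minus h.toCore d
    have hr := rel_one h d c
    rcases d.hε with hε | hε <;> rw [hε] at hr
    · have hy := (exc_pos_spec h d hε c).1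
      generalize charDegree (d.exc c : G → ℂ) = y at hy hr
      generalize (Plus h.toCore d).card = r at hc hr
      generalize (Minus h.toCore d).card = s at hc hr
      subst h3 hn he2
      rcases (show r = 0 ∧ s = 1 ∨ r = 1 ∧ s = 0 by omega) with ⟨rfl, rfl⟩ | ⟨rfl, rfl⟩ <;> omega
    · have hy := (exc_neg_spec h d hε c).2.2
      generalize charDegree (d.exc c : G → ℂ) = y at hy hr
      generalize (Plus h.toCore d).card = r at hc hr
      generalize (Minus h.toCore d).card = s at hc hr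
      subst h3 hn he2 ht1
      rcases (show r = 0 ∧ s = 1 ∨ r = 1 ∧ s = 0 by omega) with ⟨rfl, rfl⟩ | ⟨rfl, rfl⟩ <;> omega
  · rw [h4] at hp
    exact absurd hp (by norm_num)

theorem succ_dvd [Fintype (IrrCharacter G)] [Fintype (IrrCharacter L)] (hn2 : 2 ≤ n) : n + 1 ∣ t * e := by
  have h1 : (n + 1) * e ∣ Nat.card G := card_M h d ▸ Subgroup.card_subgroup_dvd_card _
  rw [h.hcard, show e * p * (1 + n * p) = p * (1 + n * p) * e by ring] at h1
  have h2 : n + 1 ∣ p * (1 + n * p) := Nat.dvd_of_mul_dvd_mul_right (e_pos h.toCore) h1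
  have hp := h.hn
  have hp5 := five_le h d hn2
  have hco : Nat.Coprime (n + 1) p := (h.hS.hp.coprime_iff_not_dvd.mpr fun hd => by
    have := Nat.le_of_dvd (by omega) hd
    omega).symm
  have h3 := hco.dvd_of_dvd_mul_left h2
  have h4 : n + 1 ∣ (1 + n * p) + t * e := by
    refine ⟨p, ?_⟩
    have := h.hp3
    rw [h.hte]
    linarith [Nat.sub_add_cancel (show 1 ≤ p by omega)]
  exact (Nat.dvd_add_right h3).mp h4

theorem sign_neg [Fintype (IrrCharacter G)] [Fintype (IrrCharacter L)] (hn2 : 2 ≤ n) : d.ε = -1 := by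
  refine d.hε.resolve_left fun hε => ?_
  have ht1 := eps_pos_small h d hn2 hε
  have hdvd := succ_dvd h d hn2
  have hte := h.hte
  rw [ht1, one_mul] at hdvd hte
  obtain ⟨c⟩ := (inferInstance : Nonempty ((ZMod p)ˣ ⧸ U h.hS (oneK x L : K x L → ℂ)))
  have hr := rel_one h d c
  rw [(exc_pos_spec h d hε c).1, hε] at hr
  have hc := card_plus_minus h.toCore d
  set r := (Plus h.toCore d).card
  set s := (Minus h.toCore d).card
  have hp : (p : ℤ) = (e : ℤ) + 1 := by have := h.hp3; omega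
  have hpm : ((p - 1 : ℕ) : ℤ) = (e : ℤ) := by rw [hte]
  rw [hpm] at hr
  have hcz : (r : ℤ) + s + 1 = e := by exact_mod_cast hc
  have h1 : ((r : ℤ) * ((n : ℤ) + 1)) * p = ((e : ℤ) - 1) * p := by
    rw [hp] at hr ⊢
    linear_combination -hr + (e : ℤ) * hcz
  have h2 := mul_right_cancel₀ (by have := h.hp3; omega) h1
  have h3 : ((n : ℤ) + 1) ∣ 1 := by
    have ha : ((n : ℤ) + 1) ∣ (e : ℤ) := by exact_mod_cast hdvd
    have hb : ((n : ℤ) + 1) ∣ (e : ℤ) - 1 := ⟨r, by rw [← h2]; ring⟩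
    have := dvd_sub ha hb
    rwa [sub_sub_cancel] at this
  have := Int.le_of_dvd one_pos h3
  omega

theorem param [Fintype (IrrCharacter G)] [Fintype (IrrCharacter L)] (hn2 : 2 ≤ n) :
    n + 1 = t ∧ e = (Plus h.toCore d).card * t + 2 ∧ ∀ c, m0 h.toCore (d.exc c) = 1 := by
  have hε := sign_neg h d hn2
  have hte := h.hte
  have hp3 := h.hp3
  have ht := t_pos h.toCore
  have hdvd := succ_dvd h d hn2
  have key : ∀ c, n + 1 = t ∧ e = (Plus h.toCore d).card * t + 2 ∧ m0 h.toCore (d.exc c) = 1 := by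
    intro c
    obtain ⟨-, hw, hy⟩ := exc_neg_spec h d hε c
    set w := m0 h.toCore (d.exc c)
    set y := charDegree (d.exc c : G → ℂ)
    have hr : -1 - ((Plus h.toCore d).card : ℤ) * (n * p + 1) + ((Minus h.toCore d).card : ℤ) * ((p - 1 : ℕ) : ℤ) + d.ε * (y : ℤ) = 0 :=
      rel_one h d c
    rw [hε] at hr
    have hc := card_plus_minus h.toCore d
    set r := (Plus h.toCore d).card
    set s := (Minus h.toCore d).card
    have hpm : ((p - 1 : ℕ) : ℤ) = (t : ℤ) * e := by rw [← hte]; push_cast; ring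
    have hp' : (p : ℤ) = (t : ℤ) * e + 1 := by
      have : p = t * e + 1 := by omega
      exact_mod_cast this
    rw [hpm] at hr
    have hcz : (r : ℤ) + s + 1 = e := by exact_mod_cast hc
    have hyz : (y : ℤ) * t = (n : ℤ) * p + 1 := by exact_mod_cast hy
    have hwz : (n : ℤ) + 1 = (w : ℤ) * t := by exact_mod_cast hw
    have h1 : (((r : ℤ) * t + 1) * w * t) * p = (((e : ℤ) - 1) * t) * p := by
      rw [hp'] at hr hyz ⊢
      linear_combination -(t : ℤ) * hr - hyz - ((r : ℤ) * t + 1) * ((t : ℤ) * e + 1) * hwz + (t : ℤ) * t * e * hcz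
    have h2 := mul_right_cancel₀ (show (p : ℤ) ≠ 0 by omega) h1
    have h3 : ((r : ℤ) * t + 1) * w = (e : ℤ) - 1 := mul_right_cancel₀ (show (t : ℤ) ≠ 0 by omega) h2
    have h4 : (w : ℤ) ∣ 1 := by
      have ha : (w : ℤ) ∣ (e : ℤ) := by
        rw [hw, mul_comm t e] at hdvd
        exact_mod_cast Nat.dvd_of_mul_dvd_mul_right ht hdvd
      have hb : (w : ℤ) ∣ (e : ℤ) - 1 := ⟨(r : ℤ) * t + 1, by rw [← h3]; ring⟩
      have := dvd_sub ha hb
      rwa [sub_sub_cancel] at this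
    have hw1 : w = 1 := by
      have := Int.natCast_dvd_natCast.mp (show ((w : ℕ) : ℤ) ∣ ((1 : ℕ) : ℤ) by exact_mod_cast h4)
      exact Nat.dvd_one.mp this
    refine ⟨by rw [hw, hw1, one_mul], ?_, hw1⟩
    rw [hw1, Nat.cast_one, mul_one] at h3
    have : ((e : ℕ) : ℤ) = ((r * t + 2 : ℕ) : ℤ) := by push_cast; linarith
    exact_mod_cast this
  obtain ⟨c⟩ := (inferInstance : Nonempty ((ZMod p)ˣ ⧸ U h.hS (oneK x L : K x L → ℂ)))
  exact ⟨(key c).1, (key c).2.1, fun c' => (key c').2.2⟩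

open scoped Classical in
/-- One linear character is fixed by the normalizer of the complement, the others are moved. -/
theorem exists_special [Fintype (IrrCharacter G)] [Fintype (IrrCharacter L)] (hn2 : 2 ≤ n) :
    ∃ μ₀ : IrrCharacter L, μ₀ ≠ oneL L ∧
      (∀ (m : Mn L) (l : L), (μ₀ : L → ℂ) (conjL L m l) = (μ₀ : L → ℂ) l) ∧
      ind h μ₀ = ∑ c, (d.exc c : G → ℂ) ∧
      (∀ μ : IrrCharacter L, μ ≠ oneL L → μ ≠ μ₀ → ∀ m : Mn L, (m : G) ∉ L →
        ∃ l : L, (μ : L → ℂ) (conjL L m l) ≠ (μ : L → ℂ) l) ∧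
      (∀ μ : IrrCharacter L, μ ≠ oneL L → μ ≠ μ₀ → ∃ χ ∈ Plus h.toCore d, ind h μ = (χ : G → ℂ)) ∧
      (∀ χ ∈ Plus h.toCore d, a h (oneL L) χ = 0 ∧ a h μ₀ χ = 0) := by
  have hε := sign_neg h d hn2
  obtain ⟨hnt, he, hw⟩ := param h d hn2
  have hexc0 : ∀ c, a h (oneL L) (d.exc c) = 0 := fun c => ind_principal_spec h d _ (exc_ne_one h.toCore d c) (d.excB c)
  have hsum : ∀ c, ∑ μ : IrrCharacter L, a h μ (d.exc c) = 1 := fun c => (sum_a h _).trans (hw c)
  obtain ⟨c₀⟩ := (inferInstance : Nonempty ((ZMod p)ˣ ⧸ U h.hS (oneK x L : K x L → ℂ)))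
  obtain ⟨μ₀, hμ₀⟩ : ∃ μ, a h μ (d.exc c₀) ≠ 0 := by
    by_contra hcon
    push Not at hcon
    have := hsum c₀
    rw [Finset.sum_eq_zero fun μ _ => hcon μ] at this
    omega
  have hμ₀1 : μ₀ ≠ oneL L := fun e' => hμ₀ (e' ▸ hexc0 c₀)
  have hle : ∀ μ c, a h μ (d.exc c) ≤ 1 := fun μ c =>
    hsum c ▸ Finset.single_le_sum (f := fun μ => a h μ (d.exc c)) (fun _ _ => Nat.zero_le _) (Finset.mem_univ μ)
  obtain ⟨hout, hcase⟩ := ind_nonprincipal_spec h d hμ₀1
  obtain ⟨hA, -, hB⟩ := hcase.resolve_left fun hl => hμ₀ (hl.2 c₀)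
  have hall : ∀ c, a h μ₀ (d.exc c) = 1 := by
    intro c
    have h2 : ∑ c : (ZMod p)ˣ ⧸ U h.hS (oneK x L : K x L → ℂ), a h μ₀ (d.exc c) =
        ∑ _c : (ZMod p)ˣ ⧸ U h.hS (oneK x L : K x L → ℂ), 1 := by
      rw [hB, Finset.sum_const, Finset.card_univ, smul_eq_mul, mul_one, ← Nat.card_eq_fintype_card, card_T h.toCore]
    exact (Finset.sum_eq_sum_iff_of_le fun c _ => hle μ₀ c).mp h2 c (Finset.mem_univ c)
  have hind : ind h μ₀ = ∑ c, (d.exc c : G → ℂ) := by
    rw [ind_eq_sum h μ₀, ← Finset.sum_subset (Finset.subset_univ (Finset.univ.image d.exc)) (fun χ _ hχ => ?_),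
      Finset.sum_image (fun a _ b _ h' => d.inj h')]
    · exact Finset.sum_congr rfl fun c _ => by rw [hall, Nat.cast_one, one_smul]
    · have ha : a h μ₀ χ = 0 := by
        by_cases hP : χ ∈ Plus h.toCore d
        · exact Finset.sum_eq_zero_iff.mp hA χ hP
        · exact hout χ hP fun ⟨c, hc⟩ => hχ (Finset.mem_image.mpr ⟨c, Finset.mem_univ _, hc⟩)
      rw [ha, Nat.cast_zero, zero_smul]
  have hother : ∀ μ : IrrCharacter L, μ ≠ oneL L → μ ≠ μ₀ → ∀ c, a h μ (d.exc c) = 0 := by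
    intro μ hμ1 hμ c
    have h1 := hsum c
    rw [← Finset.add_sum_erase _ _ (Finset.mem_univ μ₀), hall] at h1
    exact Finset.sum_eq_zero_iff.mp (by omega : ∑ ν ∈ Finset.univ.erase μ₀, a h ν (d.exc c) = 0) μ
      (Finset.mem_erase.mpr ⟨hμ, Finset.mem_univ μ⟩)
  have hplus : ∀ μ : IrrCharacter L, μ ≠ oneL L → μ ≠ μ₀ → ∃ χ ∈ Plus h.toCore d, ind h μ = (χ : G → ℂ) := by
    intro μ hμ1 hμ
    obtain ⟨hout', hcase'⟩ := ind_nonprincipal_spec h d hμ1
    obtain ⟨hA', -⟩ := hcase'.resolve_right fun hr => by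
      have := hr.2.2
      rw [Finset.sum_eq_zero fun c _ => hother μ hμ1 hμ c] at this
      have := t_pos h.toCore
      omega
    obtain ⟨χ, hχ, hχa⟩ : ∃ χ ∈ Plus h.toCore d, a h μ χ ≠ 0 := Finset.exists_ne_zero_of_sum_ne_zero (by omega)
    rw [← Finset.add_sum_erase _ _ hχ] at hA'
    refine ⟨χ, hχ, ?_⟩
    rw [ind_eq_sum h μ, Finset.sum_eq_single χ (fun φ _ hφ => ?_) (fun h' => absurd (Finset.mem_univ _) h'),
      show a h μ χ = 1 by omega, Nat.cast_one, one_smul]
    have ha : a h μ φ = 0 := by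
      by_cases hP : φ ∈ Plus h.toCore d
      · exact Finset.sum_eq_zero_iff.mp (by omega : ∑ ψ ∈ (Plus h.toCore d).erase χ, a h μ ψ = 0) φ
          (Finset.mem_erase.mpr ⟨hφ, hP⟩)
      · by_cases hr : φ ∈ Set.range d.exc
        · obtain ⟨c, rfl⟩ := hr
          exact hother μ hμ1 hμ c
        · exact hout' φ hP hr
    rw [ha, Nat.cast_zero, zero_smul]
  haveI := Fintype.ofFinite (Mn L)
  refine ⟨μ₀, hμ₀1, ?_, hind, ?_, hplus, fun χ hχ => ⟨?_, Finset.sum_eq_zero_iff.mp hA χ hχ⟩⟩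
  · intro m
    have h1 := inner_ind h d μ₀ μ₀
    rw [hind, Char.classInner_sum_left, Finset.sum_congr rfl (g := fun _ => (1 : ℂ)) (fun c _ => by
      rw [Char.classInner_sum_right, Finset.sum_eq_single c (fun c' _ hc' => Char.classInner_irr_of_ne (d.exc c).2 (d.exc c').2
        (fun e' => hc' (d.inj (Subtype.ext e')).symm)) (fun h' => absurd (Finset.mem_univ _) h'),
        Char.classInner_irr_self (d.exc c).2]), Finset.sum_const, Finset.card_univ, nsmul_eq_mul, mul_one,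
      ← Nat.card_eq_fintype_card, card_T h.toCore, ← Nat.cast_mul, Nat.cast_inj] at h1
    have h2 : ∀ m : Mn L, ∀ l : L, (μ₀ : L → ℂ) (conjL L m l) = (μ₀ : L → ℂ) l := by
      by_contra hcon
      push Not at hcon
      obtain ⟨m', l', hl'⟩ := hcon
      have hlt : Nat.card {m : Mn L // ∀ l : L, (μ₀ : L → ℂ) (conjL L m l) = (μ₀ : L → ℂ) l} < Nat.card (Mn L) := by
        rw [Nat.card_eq_fintype_card, Nat.card_eq_fintype_card]
        exact Fintype.card_subtype_lt (x := m') (fun hc => hl' (hc l'))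
      rw [← h1, card_M h d, hnt, mul_comm t e] at hlt
      exact lt_irrefl _ hlt
    exact h2 m
  · intro μ hμ1 hμ m hm
    by_contra hcon
    push Not at hcon
    obtain ⟨χ, -, hχ⟩ := hplus μ hμ1 hμ
    have h1 := inner_ind h d μ μ
    rw [hχ, Char.classInner_irr_self χ.2, mul_one, Nat.cast_inj] at h1
    have hsub : (L.subgroupOf (Mn L) : Set (Mn L)) ⊂ {m | ∀ l : L, (μ : L → ℂ) (conjL L m l) = (μ : L → ℂ) l} := by
      refine Set.ssubset_iff_of_subset (fun m' hm' l => ?_) |>.mpr ⟨m, hcon, hm⟩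
      rw [conjL_of_mem h hm']
    have h2 := Set.ncard_lt_ncard hsub (Set.toFinite _)
    rw [← Nat.card_coe_set_eq, ← Nat.card_coe_set_eq] at h2
    have h3 : Nat.card (L.subgroupOf (Mn L)) = e := by
      rw [Nat.card_congr (Subgroup.subgroupOfEquivOfLe Subgroup.le_normalizer).toEquiv, h.he]
    change Nat.card (L.subgroupOf (Mn L)) < Nat.card {m : Mn L // ∀ l : L, (μ : L → ℂ) (conjL L m l) = (μ : L → ℂ) l} at h2
    omega
  · obtain ⟨hB, hr, hne, -⟩ := (mem_Plus h.toCore d).mp hχ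
    exact ind_principal_spec h d χ hne hB

open scoped Classical in
/-- The special character is `-1` on the unique involution of the complement. -/
theorem exists_involution [Fintype (IrrCharacter G)] [Fintype (IrrCharacter L)] (hn2 : 2 ≤ n) (μ₀ : IrrCharacter L)
    (hμ₀1 : μ₀ ≠ oneL L) (hfix : ∀ (m : Mn L) (l : L), (μ₀ : L → ℂ) (conjL L m l) = (μ₀ : L → ℂ) l)
    (hmove : ∀ μ : IrrCharacter L, μ ≠ oneL L → μ ≠ μ₀ → ∀ m : Mn L, (m : G) ∉ L →
      ∃ l : L, (μ : L → ℂ) (conjL L m l) ≠ (μ : L → ℂ) l) :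
    ∃ (g j : L), (∀ l : L, l ∈ Subgroup.zpowers g) ∧ orderOf j = 2 ∧ (∀ l : L, l ^ 2 = 1 → l = 1 ∨ l = j) ∧
      (μ₀ : L → ℂ) g = -1 ∧ (μ₀ : L → ℂ) j = -1 ∧ ¬ 4 ∣ e := by
  obtain ⟨hnt, -, -⟩ := param h d hn2
  haveI := Fintype.ofFinite (Mn L)
  obtain ⟨g, hg⟩ := exists_gen h
  have hmul : ∀ (m m' : Mn L), (m : G) ∈ L → (m' : G) ∈ L → (m * m' : G) ∈ L := fun m m' a b => mul_mem a b
  obtain ⟨m₁, hm₁⟩ : ∃ m : Mn L, (m : G) ∉ L := by
    by_contra hcon
    push Not at hcon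
    have h1 : Nat.card (Mn L) ≤ Nat.card L :=
      Nat.card_le_card_of_injective (fun m : Mn L => (⟨m.1, hcon m⟩ : L)) fun a b e' => Subtype.ext (congrArg (fun z : L => (z : G)) e' :)
    rw [card_M h d, h.he, add_mul, one_mul] at h1
    have := Nat.mul_pos (show 0 < n by omega) (e_pos h.toCore)
    omega
  -- the special character is real
  have hnorm : ‖(μ₀ : L → ℂ) g‖ = 1 :=
    Complex.norm_eq_one_of_pow_eq_one (by rw [← irr_L_pow h, ← h.he, pow_card_eq_one', irr_L_one h.toCore])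
      (Nat.one_le_iff_ne_zero.mp (e_pos h.toCore))
  set μ₁ : IrrCharacter L := ⟨fun l => conj ((μ₀ : L → ℂ) l), Char.IsIrrCharacter.conj μ₀.2⟩
  have hμ₁ : μ₁ = μ₀ := by
    by_contra hne
    have hμ₁1 : μ₁ ≠ oneL L := fun e' => hμ₀1 (lin_ext h hg (by
      have h1 := congrFun (congrArg Subtype.val e') g
      simp only [μ₁, Pi.one_apply] at h1
      show (μ₀ : L → ℂ) g = 1
      rw [← Complex.conj_conj ((μ₀ : L → ℂ) g), h1, map_one]))
    obtain ⟨l, hl⟩ := hmove μ₁ hμ₁1 hne m₁ hm₁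
    exact hl (congrArg conj (hfix m₁ l))
  have hreal : conj ((μ₀ : L → ℂ) g) = (μ₀ : L → ℂ) g := congrFun (congrArg Subtype.val hμ₁) g
  have hgm : (μ₀ : L → ℂ) g = -1 := by
    have h1 := Complex.mul_conj ((μ₀ : L → ℂ) g)
    rw [hreal, Complex.normSq_eq_norm_sq, hnorm, one_pow, Complex.ofReal_one] at h1
    rcases mul_self_eq_one_iff.mp h1 with h2 | h2
    · exact absurd (lin_ext h hg (h2.trans rfl) : μ₀ = oneL L) hμ₀1
    · exact h2
  obtain ⟨k, hk⟩ : Even e := by
    rw [← neg_one_pow_eq_one_iff_even (R := ℂ) (by norm_num), ← hgm, ← irr_L_pow h, ← h.he, pow_card_eq_one',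
      irr_L_one h.toCore]
  have hk0 : 0 < k := by have := e_pos h.toCore; omega
  set j := g ^ k with hjdef
  have hj : orderOf j = 2 := by
    rw [hjdef, orderOf_pow' g hk0.ne', orderOf_gen h hg, hk, Nat.gcd_eq_right (by exact ⟨2, by omega⟩)]
    exact Nat.div_eq_of_eq_mul_left hk0 (by omega)
  have h4 : ¬ 4 ∣ e := by
    rintro ⟨q, hq⟩
    obtain ⟨ν, hν⟩ := exists_lin h hg (z := Complex.I) (by rw [hq, pow_mul, Complex.I_pow_four, one_pow])
    have hν1 : ν ≠ oneL L := fun e' => by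
      rw [e'] at hν
      have := congrArg Complex.re hν
      simp at this
    have hν0 : ν ≠ μ₀ := fun e' => by
      rw [e', hgm] at hν
      have := congrArg Complex.re hν
      simp at this
    have hflip : ∀ m : Mn L, (m : G) ∉ L → (ν : L → ℂ) (conjL L m g) = -Complex.I := by
      intro m hm
      obtain ⟨u, hu⟩ := (mem_powers_iff_mem_zpowers (x := g) (y := conjL L m g)).mpr (hg _)
      have hu' : g ^ u = conjL L m g := hu
      have h1 := hfix m g
      rw [← hu', irr_L_pow h, hgm] at h1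
      obtain ⟨v, rfl⟩ : Odd u := (neg_one_pow_eq_neg_one_iff_odd (R := ℂ) (by norm_num)).mp h1
      rw [← hu', irr_L_pow h, hν, pow_succ, pow_mul, Complex.I_sq]
      rcases neg_one_pow_eq_or ℂ v with h2 | h2 <;> rw [h2]
      · exfalso
        obtain ⟨l, hl⟩ := hmove ν hν1 hν0 m hm
        refine hl ?_
        obtain ⟨i, rfl⟩ := (mem_powers_iff_mem_zpowers (x := g) (y := l)).mpr (hg l)
        rw [map_pow, irr_L_pow h, irr_L_pow h, ← hu', irr_L_pow h, hν, pow_succ, pow_mul, Complex.I_sq, h2, one_mul]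
      · rw [neg_one_mul]
    have hconjI : ∀ m : Mn L, (m : G) ∉ L → ∀ l : L, (ν : L → ℂ) (conjL L m l) = conj ((ν : L → ℂ) l) := by
      intro m hm l
      obtain ⟨i, rfl⟩ := (mem_powers_iff_mem_zpowers (x := g) (y := l)).mpr (hg l)
      rw [map_pow, irr_L_pow h, irr_L_pow h, hflip m hm, hν, map_pow, Complex.conj_I]
    have hprod : ∀ m m' : Mn L, (m : G) ∉ L → (m' : G) ∉ L → ((m * m' : Mn L) : G) ∈ L := by
      intro m m' hm hm'
      by_contra hmm
      obtain ⟨l, hl⟩ := hmove ν hν1 hν0 _ hmm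
      exact hl (by rw [conjL_mul, hconjI m' hm', hconjI m hm, Complex.conj_conj])
    have hcard : Nat.card (Mn L) ≤ 2 * e := by
      have hinj : Function.Injective (fun m : Mn L =>
          (if hm : (m : G) ∈ L then Sum.inl (⟨m.1, hm⟩ : L) else Sum.inr (⟨(m₁ : G) * m.1, hprod m₁ m hm₁ hm⟩ : L) : L ⊕ L)) := by
        intro a b hab
        by_cases ha : (a : G) ∈ L <;> by_cases hb : (b : G) ∈ L <;>
          simp only [ha, hb, dite_true, dite_false, Sum.inl.injEq, Sum.inr.injEq, reduceCtorEq] at hab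
        · exact Subtype.ext (congrArg (fun z : L => (z : G)) hab :)
        · exact Subtype.ext (mul_left_cancel (congrArg (fun z : L => (z : G)) hab :))
      refine (Nat.card_le_card_of_injective _ hinj).trans (le_of_eq ?_)
      rw [Nat.card_sum, h.he]
      omega
    rw [card_M h d] at hcard
    have := Nat.mul_le_mul_right e (show 3 ≤ n + 1 by omega)
    have := e_pos h.toCore
    omega
  refine ⟨g, j, hg, hj, fun l hl => ?_, hgm, ?_, h4⟩
  · obtain ⟨i, rfl⟩ := (mem_powers_iff_mem_zpowers (x := g) (y := l)).mpr (hg l)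
    simp only [← pow_mul] at hl
    have hd : e ∣ i * 2 := orderOf_gen h hg ▸ orderOf_dvd_of_pow_eq_one hl
    obtain ⟨q, hq⟩ := hd
    have hik : i = k * q := by
      refine Nat.eq_of_mul_eq_mul_right two_pos ?_
      rw [hq, hk]; ring
    show g ^ i = 1 ∨ g ^ i = j
    rw [hik, pow_mul, ← hjdef]
    rcases Nat.even_or_odd q with ⟨r, rfl⟩ | ⟨r, rfl⟩
    · left
      rw [← two_mul, pow_mul, show j ^ 2 = 1 from hj ▸ pow_orderOf_eq_one j, one_pow]
    · right
      rw [pow_succ, pow_mul, show j ^ 2 = 1 from hj ▸ pow_orderOf_eq_one j, one_pow, one_mul]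
  · rw [hjdef, irr_L_pow h, hgm]
    refine Odd.neg_one_pow (Nat.not_even_iff_odd.mp fun ⟨r, hr⟩ => h4 ⟨r, by omega⟩)

set_option maxHeartbeats 1600000 in
open scoped Classical in
/-- The values at the involution: its centralizer, and the number of involutions there. -/
theorem values_at_involution [Fintype (IrrCharacter G)] [Fintype (IrrCharacter L)] (hn2 : 2 ≤ n) {μ₀ : IrrCharacter L}
    (hind : ind h μ₀ = ∑ c, (d.exc c : G → ℂ)) (hμ₀1 : μ₀ ≠ oneL L)
    (hplus : ∀ μ : IrrCharacter L, μ ≠ oneL L → μ ≠ μ₀ → ∃ χ ∈ Plus h.toCore d, ind h μ = (χ : G → ℂ))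
    (hz : ∀ χ ∈ Plus h.toCore d, a h (oneL L) χ = 0 ∧ a h μ₀ χ = 0)
    {j : L} (hj : orderOf j = 2) (huniq : ∀ l : L, l ^ 2 = 1 → l = 1 ∨ l = j) (hμj : (μ₀ : L → ℂ) j = -1) :
    Subgroup.centralizer ({(j : G)} : Set G) = Mn L ∧
      Nat.card {q : G × G // IsConj (j : G) q.1 ∧ IsConj (j : G) q.2 ∧ q.1 * q.2 = (j : G)} = e * n := by
  have hε := sign_neg h d hn2
  obtain ⟨hnt, he, hw⟩ := param h d hn2
  have hj1 : j ≠ 1 := fun e' => by rw [e', orderOf_one] at hj; omega
  have hjG : orderOf (j : G) = 2 := by rw [Subgroup.orderOf_coe, hj]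
  have hjreg : ¬ p ∣ orderOf (j : G) := h.hS.regular_L j
  have hconj : ∀ m : Mn L, conjL L m j = j := fun m => by
    rcases huniq (conjL L m j) (by rw [← map_pow, show j ^ 2 = 1 from hj ▸ pow_orderOf_eq_one j, map_one]) with h1 | h1
    · exact absurd ((conjL L m).map_eq_one_iff.mp h1) hj1
    · exact h1
  have hMle : Mn L ≤ Subgroup.centralizer ({(j : G)} : Set G) := fun m hm => by
    rw [Subgroup.mem_centralizer_singleton_iff]
    have h1 : m⁻¹ * (j : G) * m = (j : G) := congrArg (fun z : L => (z : G)) (hconj ⟨m, hm⟩)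
    exact ((inv_mul_eq_iff_eq_mul).mp (mul_assoc m⁻¹ (j : G) m ▸ h1)).symm
  have hval : ∀ μ : IrrCharacter L, ind h μ (j : G) = (t : ℂ) * (μ : L → ℂ) j := by
    intro μ
    have h1 := ind_apply_L h d μ hj1
    rw [Finset.sum_congr rfl (g := fun _ => (μ : L → ℂ) j) (fun m _ => by rw [hconj]), Finset.sum_const,
      Finset.card_univ, nsmul_eq_mul, ← Nat.card_eq_fintype_card, card_M h d, hnt, Nat.cast_mul] at h1
    refine mul_left_cancel₀ (Nat.cast_ne_zero.mpr (Nat.one_le_iff_ne_zero.mp (e_pos h.toCore)) : (e : ℂ) ≠ 0) ?_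
    rw [h1]; ring
  have hreal : ∀ χ : IrrCharacter G, conj ((χ : G → ℂ) (j : G)) = (χ : G → ℂ) (j : G) := fun χ => by
    rw [← Char.IsCharacter.apply_inv (Char.IsIrrCharacter.isCharacter χ.2),
      inv_eq_of_mul_eq_one_right (show (j : G) * (j : G) = 1 by rw [← pow_two, ← hjG, pow_orderOf_eq_one])]
  have hsqμ : ∀ μ : IrrCharacter L, (μ : L → ℂ) j ^ 2 = 1 := fun μ => by
    rw [← irr_L_pow h, show j ^ 2 = 1 from hj ▸ pow_orderOf_eq_one j, irr_L_one h.toCore]
  -- members of degree `n * p + 1`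
  have hPj : ∀ χ ∈ Plus h.toCore d, (χ : G → ℂ) (j : G) ^ 2 = (t : ℂ) ^ 2 := by
    intro χ hχ
    obtain ⟨hB, hr, hne, hδ⟩ := (mem_Plus h.toCore d).mp hχ
    obtain ⟨μ, hμ⟩ : ∃ μ, a h μ χ ≠ 0 := by
      by_contra hcon
      push Not at hcon
      have h1 := sum_a h χ
      rw [(plus_spec h d hB hr hne hδ).2, Finset.sum_eq_zero fun μ _ => hcon μ] at h1
      omega
    have hμ1 : μ ≠ oneL L := fun e' => hμ (e' ▸ (hz χ hχ).1)
    have hμ0 : μ ≠ μ₀ := fun e' => hμ (e' ▸ (hz χ hχ).2)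
    obtain ⟨χ', -, hχ'⟩ := hplus μ hμ1 hμ0
    have heq : χ' = χ := by
      by_contra hne'
      have h1 := a_spec h μ χ
      rw [hχ', Char.classInner_irr_of_ne χ'.2 χ.2 (fun e' => hne' (Subtype.ext e'))] at h1
      exact hμ (Nat.cast_eq_zero.mp h1.symm)
    rw [← heq, ← hχ', hval, mul_pow, hsqμ, mul_one]
  have hXplus : ∑ χ ∈ Plus h.toCore d, (χ : G → ℂ) (j : G) = 0 := by
    refine mul_left_cancel₀ (Nat.cast_ne_zero.mpr (Nat.one_le_iff_ne_zero.mp (t_pos h.toCore)) : (t : ℂ) ≠ 0) ?_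
    rw [mul_zero, Finset.mul_sum]
    have h1 : ∀ χ ∈ Plus h.toCore d, (t : ℂ) * (χ : G → ℂ) (j : G) =
        ∑ μ ∈ (Finset.univ.erase (oneL L)).erase μ₀, (a h μ χ : ℂ) * (χ : G → ℂ) (j : G) := by
      intro χ hχ
      obtain ⟨hB, hr, hne, hδ⟩ := (mem_Plus h.toCore d).mp hχ
      rw [← Finset.sum_mul, show (t : ℂ) = ((∑ μ : IrrCharacter L, a h μ χ : ℕ) : ℂ) by
        rw [sum_a h χ, (plus_spec h d hB hr hne hδ).2, hnt], ← Nat.cast_sum]
      congr 2
      rw [← Finset.add_sum_erase _ _ (Finset.mem_univ (oneL L)), (hz χ hχ).1, zero_add,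
        ← Finset.add_sum_erase _ _ (Finset.mem_erase.mpr ⟨hμ₀1, Finset.mem_univ μ₀⟩), (hz χ hχ).2, zero_add]
    rw [Finset.sum_congr rfl h1, Finset.sum_comm,
      Finset.sum_congr (s₁ := (Finset.univ.erase (oneL L)).erase μ₀) rfl (g := fun μ => (t : ℂ) * (μ : L → ℂ) j)
        (fun μ hμ => ?_), ← Finset.mul_sum]
    · have h2 := sum_irr_L h.toCore j
      rw [if_neg hj1, ← Finset.add_sum_erase _ _ (Finset.mem_univ (oneL L)),
        ← Finset.add_sum_erase _ _ (Finset.mem_erase.mpr ⟨hμ₀1, Finset.mem_univ μ₀⟩), hμj,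
        show ((oneL L : IrrCharacter L) : L → ℂ) j = 1 from rfl, ← add_assoc, add_neg_cancel, zero_add] at h2
      rw [h2, mul_zero]
    · simp only [Finset.mem_erase] at hμ
      obtain ⟨χ₁, hχ₁, hind₁⟩ := hplus μ hμ.2.1 hμ.1
      rw [← hval μ, hind₁, Finset.sum_eq_single χ₁ (fun φ _ hφ => ?_) (fun h' => absurd hχ₁ h')]
      · have h1' := a_spec h μ χ₁
        rw [hind₁, Char.classInner_irr_self χ₁.2] at h1'
        rw [← h1', one_mul]
      · have h1' := a_spec h μ φ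
        rw [hind₁, Char.classInner_irr_of_ne χ₁.2 φ.2 (fun e' => hφ (Subtype.ext e').symm)] at h1'
        rw [← h1', zero_mul]
  -- the exceptional characters
  have hθ : ∀ c, (d.exc c : G → ℂ) (j : G) = -1 := by
    intro c
    have hsame : ∀ c', (d.exc c' : G → ℂ) (j : G) = (d.exc c : G → ℂ) (j : G) := by
      intro c'
      have h1 := rel_apply h.toCore d hjreg c
      have h2 := rel_apply h.toCore d hjreg c'
      rw [hε] at h1 h2
      push_cast at h1 h2
      linear_combination h1 - h2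
    have h1 : ind h μ₀ (j : G) = (t : ℂ) * (d.exc c : G → ℂ) (j : G) := by
      rw [hind, Finset.sum_apply, Finset.sum_congr rfl (fun c' _ => hsame c'), Finset.sum_const, Finset.card_univ,
        nsmul_eq_mul, ← Nat.card_eq_fintype_card, card_T h.toCore]
    rw [hval, hμj] at h1
    exact (mul_left_cancel₀ (Nat.cast_ne_zero.mpr (Nat.one_le_iff_ne_zero.mp (t_pos h.toCore)) : (t : ℂ) ≠ 0) h1).symm
  -- the characters outside the block
  set Out := Finset.univ.filter (fun χ => χ ∉ principalBlock M G) with hOut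
  set ψ₁ : IrrCharacter G → ℂ := fun χ => (a h (oneL L) χ : ℂ)
  have hsplit : ∀ f : IrrCharacter G → ℂ, ∑ χ, f χ =
      f (oneG G) + ∑ χ ∈ Plus h.toCore d, f χ + ∑ χ ∈ Minus h.toCore d, f χ + ∑ c, f (d.exc c) + ∑ χ ∈ Out, f χ := by
    intro f
    have hu : Finset.univ = insert (oneG G) (Plus h.toCore d ∪ Minus h.toCore d ∪ Finset.univ.image d.exc ∪ Out) := by
      ext χ
      simp only [Finset.mem_univ, true_iff, Finset.mem_insert, Finset.mem_union, hOut, Finset.mem_filter,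
        true_and, Finset.mem_image]
      rcases mem_cases h.toCore d χ with h1 | h1 | h1 | ⟨c, rfl⟩ | h1
      · exact Or.inl h1
      · exact Or.inr (Or.inl (Or.inl (Or.inl h1)))
      · exact Or.inr (Or.inl (Or.inl (Or.inr h1)))
      · exact Or.inr (Or.inl (Or.inr ⟨c, rfl⟩))
      · exact Or.inr (Or.inr h1)
    have hn1 : oneG G ∉ Plus h.toCore d ∪ Minus h.toCore d ∪ Finset.univ.image d.exc ∪ Out := by
      simp only [Finset.mem_union, Finset.mem_image, hOut, Finset.mem_filter, Finset.mem_univ, true_and, not_or]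
      exact ⟨⟨⟨fun h1 => ((mem_Plus h.toCore d).mp h1).2.2.1 rfl, fun h1 => ((mem_Minus h.toCore d).mp h1).2.2.1 rfl⟩,
        fun ⟨c, hc⟩ => exc_ne_one h.toCore d c hc⟩, fun h1 => h1 d.oneB⟩
    rw [hu, Finset.sum_insert hn1, Finset.sum_union, Finset.sum_union, Finset.sum_union,
      Finset.sum_image (fun a _ b _ h' => d.inj h')]
    · ring
    · exact Finset.disjoint_left.mpr fun χ h1 h2 => by
        have := ((mem_Plus h.toCore d).mp h1).2.2.2
        have := ((mem_Minus h.toCore d).mp h2).2.2.2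
        omega
    · refine Finset.disjoint_left.mpr fun χ h1 h2 => ?_
      obtain ⟨c, -, rfl⟩ := Finset.mem_image.mp h2
      rcases Finset.mem_union.mp h1 with h1 | h1
      · exact ((mem_Plus h.toCore d).mp h1).2.1 ⟨c, rfl⟩
      · exact ((mem_Minus h.toCore d).mp h1).2.1 ⟨c, rfl⟩
    · refine Finset.disjoint_left.mpr fun χ h1 h2 => (Finset.mem_filter.mp h2).2 ?_
      rcases Finset.mem_union.mp h1 with h1 | h1
      · rcases Finset.mem_union.mp h1 with h1 | h1
        · exact ((mem_Plus h.toCore d).mp h1).1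
        · exact ((mem_Minus h.toCore d).mp h1).1
      · obtain ⟨c, -, rfl⟩ := Finset.mem_image.mp h1
        exact d.excB c
  have hzero_in : ∀ χ, χ ≠ oneG G → χ ∈ principalBlock M G → ψ₁ χ = 0 := fun χ h1 h2 => by
    simp only [ψ₁, ind_principal_spec h d χ h1 h2, Nat.cast_zero]
  have hψone : ψ₁ (oneG G) = 1 := by
    simp only [ψ₁, a_oneG h, if_pos trivial, Nat.cast_one]
  have hPij : ∑ χ ∈ Out, ψ₁ χ * (χ : G → ℂ) (j : G) = (n : ℂ) := by
    have h1 : ind h (oneL L) (j : G) = ∑ χ : IrrCharacter G, ψ₁ χ * (χ : G → ℂ) (j : G) := by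
      rw [ind_eq_sum h, Finset.sum_apply]
      exact Finset.sum_congr rfl fun χ _ => by rw [Pi.smul_apply, smul_eq_mul]
    rw [hval, show ((oneL L : IrrCharacter L) : L → ℂ) j = 1 from rfl, hsplit, hψone,
      show ((oneG G : IrrCharacter G) : G → ℂ) (j : G) = 1 from rfl,
      Finset.sum_eq_zero (s := Plus h.toCore d) (fun χ hχ => by
        rw [hzero_in χ ((mem_Plus h.toCore d).mp hχ).2.2.1 ((mem_Plus h.toCore d).mp hχ).1, zero_mul]),
      Finset.sum_eq_zero (s := Minus h.toCore d) (fun χ hχ => by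
        rw [hzero_in χ ((mem_Minus h.toCore d).mp hχ).2.2.1 ((mem_Minus h.toCore d).mp hχ).1, zero_mul]),
      Finset.sum_eq_zero (s := (Finset.univ : Finset ((ZMod p)ˣ ⧸ U h.hS (oneK x L : K x L → ℂ)))) (fun c _ => by
        rw [hzero_in _ (exc_ne_one h.toCore d c) (d.excB c), zero_mul])] at h1
    push_cast at h1
    have hnt' : (n : ℂ) + 1 = (t : ℂ) := by exact_mod_cast hnt
    linear_combination -h1 - hnt'
  have hPisq : ∑ χ ∈ Out, ψ₁ χ ^ 2 = (n : ℂ) := by
    have h1 : ((∑ χ : IrrCharacter G, a h (oneL L) χ ^ 2 : ℕ) : ℂ) = ((n + 1 : ℕ) : ℂ) := by rw [sum_a_sq h d]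
    push_cast at h1
    change ∑ χ : IrrCharacter G, ψ₁ χ ^ 2 = _ at h1
    rw [hsplit, hψone,
      Finset.sum_eq_zero (s := Plus h.toCore d) (fun χ hχ => by
        rw [hzero_in χ ((mem_Plus h.toCore d).mp hχ).2.2.1 ((mem_Plus h.toCore d).mp hχ).1, zero_pow two_ne_zero]),
      Finset.sum_eq_zero (s := Minus h.toCore d) (fun χ hχ => by
        rw [hzero_in χ ((mem_Minus h.toCore d).mp hχ).2.2.1 ((mem_Minus h.toCore d).mp hχ).1, zero_pow two_ne_zero]),
      Finset.sum_eq_zero (s := (Finset.univ : Finset ((ZMod p)ˣ ⧸ U h.hS (oneK x L : K x L → ℂ)))) (fun c _ => by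
        rw [hzero_in _ (exc_ne_one h.toCore d c) (d.excB c), zero_pow two_ne_zero])] at h1
    linear_combination h1
  have hcol : (Nat.card (Subgroup.centralizer ({(j : G)} : Set G)) : ℂ) =
      ((t * e : ℕ) : ℂ) + ((∑ χ ∈ Minus h.toCore d, Complex.normSq ((χ : G → ℂ) (j : G)) +
        ∑ χ ∈ Out, Complex.normSq ((χ : G → ℂ) (j : G) - ψ₁ χ) : ℝ) : ℂ) := by
    rw [← TwoClassChar.col_orth_self, finsum_eq_sum_of_fintype, hsplit]
    push_cast
    simp only [Complex.normSq_eq_conj_mul_self, map_sub, hreal]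
    rw [Pi.one_apply, map_one, mul_one,
      Finset.sum_congr (s₁ := Plus h.toCore d) rfl (g := fun _ => (t : ℂ) ^ 2) (fun χ hχ => by rw [← pow_two, hPj χ hχ]),
      Finset.sum_congr (s₁ := (Finset.univ : Finset ((ZMod p)ˣ ⧸ U h.hS (oneK x L : K x L → ℂ)))) rfl (g := fun _ => (1 : ℂ))
        (fun c _ => by rw [hθ]; norm_num),
      Finset.sum_const, Finset.sum_const, Finset.card_univ, ← Nat.card_eq_fintype_card, card_T h.toCore, nsmul_eq_mul, nsmul_eq_mul,
      Finset.sum_congr (s₁ := Out) rfl (g := fun χ => ((χ : G → ℂ) (j : G) - ψ₁ χ) * ((χ : G → ℂ) (j : G) - ψ₁ χ) +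
        2 * (ψ₁ χ * (χ : G → ℂ) (j : G)) - ψ₁ χ ^ 2) (fun χ _ => by ring),
      Finset.sum_sub_distrib, Finset.sum_add_distrib, ← Finset.mul_sum, hPij, hPisq]
    have het : (e : ℂ) = ((Plus h.toCore d).card : ℂ) * t + 2 := by exact_mod_cast he
    have hnt' : (n : ℂ) + 1 = (t : ℂ) := by exact_mod_cast hnt
    have hconjψ : ∀ χ, conj (ψ₁ χ) = ψ₁ χ := fun χ => Complex.conj_natCast _
    simp only [hconjψ, ψ₁, Complex.conj_natCast]
    linear_combination -(t : ℂ) * het + hnt'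
  have hcle : Nat.card (Subgroup.centralizer ({(j : G)} : Set G)) ≤ t * e := by
    refine (card_centralizer_le h d hj1).trans (le_of_eq ?_)
    rw [hnt]
  set S := ∑ χ ∈ Minus h.toCore d, Complex.normSq ((χ : G → ℂ) (j : G)) +
    ∑ χ ∈ Out, Complex.normSq ((χ : G → ℂ) (j : G) - ψ₁ χ) with hSdef
  have hcolR : (Nat.card (Subgroup.centralizer ({(j : G)} : Set G)) : ℝ) = ((t * e : ℕ) : ℝ) + S := by
    apply Complex.ofReal_injective
    push_cast
    push_cast at hcol
    exact hcol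
  have hS0 : S = 0 := by
    have h1 : (0 : ℝ) ≤ S := add_nonneg (Finset.sum_nonneg fun _ _ => Complex.normSq_nonneg _)
      (Finset.sum_nonneg fun _ _ => Complex.normSq_nonneg _)
    have h2 : (Nat.card (Subgroup.centralizer ({(j : G)} : Set G)) : ℝ) ≤ ((t * e : ℕ) : ℝ) := by exact_mod_cast hcle
    linarith
  have hc : Nat.card (Subgroup.centralizer ({(j : G)} : Set G)) = t * e := by
    rw [hS0, add_zero] at hcolR
    exact_mod_cast hcolR
  refine ⟨(Subgroup.eq_of_le_of_card_ge hMle (le_of_eq ?_)).symm, ?_⟩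
  · rw [hc, card_M h d, hnt]
  obtain ⟨hM0, hO0⟩ := (add_eq_zero_iff_of_nonneg (Finset.sum_nonneg fun _ _ => Complex.normSq_nonneg _)
    (Finset.sum_nonneg fun _ _ => Complex.normSq_nonneg _)).mp hS0
  have hMinus : ∀ χ ∈ Minus h.toCore d, (χ : G → ℂ) (j : G) = 0 := fun χ hχ =>
    Complex.normSq_eq_zero.mp ((Finset.sum_eq_zero_iff_of_nonneg fun _ _ => Complex.normSq_nonneg _).mp hM0 χ hχ)
  have hOutv : ∀ χ ∈ Out, (χ : G → ℂ) (j : G) = ψ₁ χ := fun χ hχ =>
    sub_eq_zero.mp (Complex.normSq_eq_zero.mp ((Finset.sum_eq_zero_iff_of_nonneg fun _ _ => Complex.normSq_nonneg _).mp hO0 χ hχ))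
  have hcount := Char.class_mult_formula (j : G) (j : G) (j : G)
  have hcl : (Nat.card {g : G // IsConj (j : G) g} : ℂ) * ((t * e : ℕ) : ℂ) = (Nat.card G : ℂ) := by
    rw [← Nat.cast_mul, ← hc, TwoClassChar.card_isConj]
  have hte0 : ((t * e : ℕ) : ℂ) ≠ 0 := Nat.cast_ne_zero.mpr (Nat.mul_pos (t_pos h.toCore) (e_pos h.toCore)).ne'
  rw [show (Nat.card {g : G // IsConj (j : G) g} : ℂ) = (Nat.card G : ℂ) / ((t * e : ℕ) : ℂ) from
    (eq_div_iff hte0).mpr hcl] at hcount
  have hp0 : (p : ℂ) ≠ 0 := Nat.cast_ne_zero.mpr h.hS.hp.ne_zero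
  have hnp : ((n * p + 1 : ℕ) : ℂ) ≠ 0 := Nat.cast_ne_zero.mpr (by omega)
  have ht0 : (t : ℂ) ≠ 0 := Nat.cast_ne_zero.mpr (Nat.one_le_iff_ne_zero.mp (t_pos h.toCore))
  have hsumχ : ∑ χ : IrrCharacter G, (χ : G → ℂ) (j : G) * (χ : G → ℂ) (j : G) * conj ((χ : G → ℂ) (j : G)) / (χ : G → ℂ) 1 =
      1 + (t : ℂ) * (-1 / (((n * p + 1 : ℕ) : ℂ) / t)) + (n : ℂ) / p := by
    simp only [hreal]
    rw [hsplit, show ((oneG G : IrrCharacter G) : G → ℂ) (j : G) = 1 from rfl,
      show ((oneG G : IrrCharacter G) : G → ℂ) 1 = 1 from rfl,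
      Finset.sum_congr (s₁ := Plus h.toCore d) rfl (g := fun χ => (t : ℂ) ^ 2 / ((n * p + 1 : ℕ) : ℂ) * (χ : G → ℂ) (j : G))
        (fun χ hχ => by
          obtain ⟨hB, hr, hne, hδ⟩ := (mem_Plus h.toCore d).mp hχ
          rw [← charDegree_cast, (plus_spec h d hB hr hne hδ).1, ← pow_two, hPj χ hχ]
          ring),
      ← Finset.mul_sum, hXplus,
      Finset.sum_eq_zero (s := Minus h.toCore d) (fun χ hχ => by rw [hMinus χ hχ]; simp),
      Finset.sum_congr (s₁ := (Finset.univ : Finset ((ZMod p)ˣ ⧸ U h.hS (oneK x L : K x L → ℂ)))) rfl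
        (g := fun _ => -1 / (((n * p + 1 : ℕ) : ℂ) / t)) (fun c _ => by
          have h1 : (charDegree (d.exc c : G → ℂ) : ℂ) * t = ((n * p + 1 : ℕ) : ℂ) := by
            rw [← Nat.cast_mul, (exc_neg_spec h d hε c).2.2]
          rw [hθ, ← charDegree_cast, ← h1, mul_div_cancel_right₀ _ ht0]
          norm_num),
      Finset.sum_const, Finset.card_univ, ← Nat.card_eq_fintype_card, card_T h.toCore, nsmul_eq_mul,
      Finset.sum_congr (s₁ := Out) rfl (g := fun χ => ψ₁ χ ^ 2 / (p : ℂ)) (fun χ hχ => by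
        have hB : χ ∉ principalBlock M G := (Finset.mem_filter.mp hχ).2
        have hex := excess_out h.toCore d hB
        rw [excess, sub_eq_zero] at hex
        have hex' : p * m0 h.toCore χ = charDegree (χ : G → ℂ) := by exact_mod_cast hex
        rw [hOutv χ hχ, ← charDegree_cast, ← hex', ← a_principal_out h d hB, Nat.cast_mul]
        show ψ₁ χ * ψ₁ χ * ψ₁ χ / ((p : ℂ) * ψ₁ χ) = _
        by_cases hz' : ψ₁ χ = 0
        · rw [hz']; simp
        · field_simp),
      ← Finset.sum_div, hPisq]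
    ring
  rw [hsumχ, h.hcard] at hcount
  apply Nat.cast_injective (R := ℂ)
  rw [hcount]
  have hpz : (p : ℂ) = (t : ℂ) * e + 1 := by
    have hp' : p = t * e + 1 := by have := h.hte; have := h.hp3; omega
    exact_mod_cast hp'
  have hnz : (n : ℂ) = (t : ℂ) - 1 := by
    have : (n : ℂ) + 1 = (t : ℂ) := by exact_mod_cast hnt
    linear_combination this
  have he0 : (e : ℂ) ≠ 0 := Nat.cast_ne_zero.mpr (Nat.one_le_iff_ne_zero.mp (e_pos h.toCore))
  have hnp' : (n : ℂ) * p + 1 ≠ 0 := by exact_mod_cast hnp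
  have hnp2 : (p : ℂ) * n + 1 ≠ 0 := by rwa [mul_comm]
  push_cast
  rw [show (1 : ℂ) + (n : ℂ) * p = n * p + 1 by ring, div_div_eq_mul_div]
  field_simp
  rw [hpz, hnz]
  ring

set_option maxHeartbeats 800000 in
open scoped Classical in
/-- More than `p + 1` Sylow subgroups force `e = 2` and the involution structure of `SL(2, 2 ^ a)`. -/
theorem structure_of_two_le [Fintype (IrrCharacter G)] [Fintype (IrrCharacter L)] (hn2 : 2 ≤ n) :
    e = 2 ∧ n + 1 = t ∧ ∃ j : L, orderOf (j : G) = 2 ∧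
      Nat.card (Subgroup.centralizer ({(j : G)} : Set G)) = 2 * t ∧
      ∀ g ∈ Subgroup.centralizer ({(j : G)} : Set G), g ≠ 1 → orderOf g = 2 ∧ IsConj (j : G) g := by
  obtain ⟨hnt, he, -⟩ := param h d hn2
  obtain ⟨μ₀, hμ₀1, hfix, hind, hmove, hplus, hz⟩ := exists_special h d hn2
  obtain ⟨g, j, hg, hj, huniq, hgm, hμj, h4⟩ := exists_involution h d hn2 μ₀ hμ₀1 hfix hmove
  obtain ⟨hcent, hcount⟩ := values_at_involution h d hn2 hind hμ₀1 hplus hz hj huniq hμj
  haveI := Fintype.ofFinite (Mn L)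
  have hjG : orderOf (j : G) = 2 := by rw [Subgroup.orderOf_coe, hj]
  have hjj : (j : G) * (j : G) = 1 := by rw [← pow_two, ← hjG, pow_orderOf_eq_one]
  set X := {q : G × G // IsConj (j : G) q.1 ∧ IsConj (j : G) q.2 ∧ q.1 * q.2 = (j : G)}
  have hinv : ∀ g' : G, IsConj (j : G) g' → g' * g' = 1 ∧ g' ≠ 1 := by
    intro g' hg'
    obtain ⟨c, rfl⟩ := isConj_iff.mp hg'
    refine ⟨by rw [show c * (j : G) * c⁻¹ * (c * (j : G) * c⁻¹) = c * ((j : G) * j) * c⁻¹ by group, hjj]; group, ?_⟩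
    intro h1
    have := SecondMain.orderOf_conj c (j : G)
    rw [h1, orderOf_one, hjG] at this
    omega
  have hmem : ∀ q : X, q.1.1 ∈ Mn L ∧ q.1.1 ∉ L := by
    rintro ⟨⟨a, b⟩, ha, hb, hab⟩
    obtain ⟨ha2, ha1⟩ := hinv a ha
    obtain ⟨hb2, hb1⟩ := hinv b hb
    have hab' : a * b = (j : G) := hab
    have hb' : b = a * (j : G) := by rw [← hab', ← mul_assoc, ha2, one_mul]
    have hcm : a * (j : G) = (j : G) * a := by
      rw [hb'] at hb2
      have h3 : a * (j : G) = (a * (j : G))⁻¹ := eq_inv_of_mul_eq_one_left hb2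
      rwa [mul_inv_rev, inv_eq_of_mul_eq_one_right ha2, inv_eq_of_mul_eq_one_right hjj] at h3
    refine ⟨hcent ▸ Subgroup.mem_centralizer_singleton_iff.mpr hcm, fun haL => ?_⟩
    rcases huniq ⟨a, haL⟩ (Subtype.ext (by rw [Subgroup.coe_pow, pow_two]; exact ha2)) with h1 | h1
    · exact ha1 (congrArg (fun z : L => (z : G)) h1)
    · refine hb1 ?_
      rw [hb', show a = (j : G) from congrArg (fun z : L => (z : G)) h1, hjj]
  have hinjX : Function.Injective (fun q : X => q.1.1) := by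
    rintro ⟨⟨a, b⟩, -, -, hab⟩ ⟨⟨a', b'⟩, -, -, hab'⟩ (h1 : a = a')
    subst h1
    exact Subtype.ext (Prod.ext rfl (mul_left_cancel ((hab : a * b = _).trans (hab' : a * b' = _).symm)))
  rcases Nat.eq_zero_or_pos (Plus h.toCore d).card with hr | hr
  · rw [hr, zero_mul, zero_add] at he
    refine ⟨he, hnt, j, hjG, ?_, fun a ha ha1 => ?_⟩
    · rw [hcent, card_M h d, hnt, he, mul_comm]
    by_cases haL : a ∈ L
    · have hL2 : (⟨a, haL⟩ : L) ^ 2 = 1 := by
        have := pow_card_eq_one' (x := (⟨a, haL⟩ : L))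
        rwa [h.he, he] at this
      rcases huniq _ hL2 with h1 | h1
      · exact absurd (congrArg (fun z : L => (z : G)) h1) ha1
      · rw [show a = (j : G) from congrArg (fun z : L => (z : G)) h1]
        exact ⟨hjG, IsConj.refl _⟩
    -- the complement of `L` consists of conjugates of `j`
    let Y := {m : Mn L // (m : G) ∉ L}
    have hY : Nat.card Y = 2 * n := by
      have h1 : Nat.card {m : Mn L // (m : G) ∈ L} = e := by
        rw [← h.he]
        exact Nat.card_congr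
          { toFun := fun m => ⟨m.1.1, m.2⟩
            invFun := fun l => ⟨⟨l.1, Subgroup.le_normalizer l.2⟩, l.2⟩
            left_inv := fun m => rfl
            right_inv := fun l => rfl }
      have h2 : Nat.card Y = Nat.card (Mn L) - Nat.card {m : Mn L // (m : G) ∈ L} := by
        rw [Nat.card_eq_fintype_card, Nat.card_eq_fintype_card, Nat.card_eq_fintype_card]
        exact Fintype.card_subtype_compl _
      rw [h2, h1, card_M h d, he]
      omega
    let F : X → Y := fun q => ⟨⟨q.1.1, (hmem q).1⟩, (hmem q).2⟩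
    have hF : Function.Surjective F := ((Nat.bijective_iff_injective_and_card F).mpr
      ⟨fun q q' e' => hinjX (congrArg (fun z : Y => (z.1 : G)) e'), by rw [hcount, hY, he]⟩).2
    obtain ⟨q, hq⟩ := hF ⟨⟨a, hcent ▸ ha⟩, haL⟩
    have e1 : q.1.1 = a := congrArg (fun z : Y => (z.1 : G)) hq
    have ha' : IsConj (j : G) a := by rw [← e1]; exact q.2.1
    exact ⟨orderOf_eq_prime (by rw [pow_two]; exact (hinv a ha').1) ha1, ha'⟩
  · exfalso
    have hsix : 5 ≤ e := by
      have := Nat.le_mul_of_pos_left t hr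
      omega
    obtain ⟨ν, hν⟩ := exists_lin h hg (z := Complex.exp (2 * Real.pi * Complex.I / e))
      (Complex.isPrimitiveRoot_exp e (by omega)).pow_eq_one
    have hprim := Complex.isPrimitiveRoot_exp e (by omega)
    rw [← hν] at hprim
    set μ : IrrCharacter L := ⟨fun l => (ν : L → ℂ) l * (ν : L → ℂ) l, by
      obtain ⟨f, hf⟩ := irr_L_hom h.toCore ν
      rw [← hf]
      exact Char.isIrrCharacter_of_hom (f * f)⟩ with hμdef
    have hμg : (μ : L → ℂ) g = (ν : L → ℂ) g * (ν : L → ℂ) g := rfl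
    have hμ1 : μ ≠ oneL L := by
      intro e'
      have h1 := congrFun (congrArg Subtype.val e') g
      have := hprim.dvd_of_pow_eq_one 2 (by rw [pow_two, ← hμg]; exact h1)
      have := Nat.le_of_dvd two_pos this
      omega
    have hμ0 : μ ≠ μ₀ := by
      intro e'
      have h1 := congrFun (congrArg Subtype.val e') g
      rw [hgm] at h1
      rw [hμg] at h1
      have := hprim.dvd_of_pow_eq_one 4 (by linear_combination ((ν : L → ℂ) g * (ν : L → ℂ) g - 1) * h1)
      have := Nat.le_of_dvd (by norm_num) this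
      omega
    have hneg : ∀ a : Mn L, (a : G) ∉ L → (a : G) * (a : G) = 1 →
        ∀ l : L, (μ : L → ℂ) (conjL L a l) = conj ((μ : L → ℂ) l) := by
      intro a haL ha2 l
      have haa : a * a = 1 := Subtype.ext ha2
      obtain ⟨f, hf⟩ := irr_L_hom h.toCore ν
      set f' : L →* ℂ := f * f.comp (conjL L a).toMonoidHom with hf'
      set φ : IrrCharacter L := ⟨f', Char.isIrrCharacter_of_hom f'⟩
      have hfixφ : ∀ l, (φ : L → ℂ) (conjL L a l) = (φ : L → ℂ) l := by
        intro l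
        show f (conjL L a l) * f (conjL L a (conjL L a l)) = f l * f (conjL L a l)
        rw [← conjL_mul, haa, conjL_of_mem h (show ((1 : Mn L) : G) ∈ L from one_mem L), mul_comm]
      have hcases : φ = oneL L ∨ φ = μ₀ := by
        by_contra hcon
        rw [not_or] at hcon
        obtain ⟨l, hl⟩ := hmove φ hcon.1 hcon.2 a haL
        exact hl (hfixφ l)
      have hsq : ((ν : L → ℂ) g * (ν : L → ℂ) (conjL L a g)) ^ 2 = 1 := by
        have hv : (φ : L → ℂ) g = (ν : L → ℂ) g * (ν : L → ℂ) (conjL L a g) := by rw [← hf]; rfl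
        rw [← hv]
        rcases hcases with h1 | h1 <;> rw [h1]
        · exact one_pow 2
        · rw [hgm]; norm_num
      have hn1 : conj ((μ : L → ℂ) g) * (μ : L → ℂ) g = 1 := by
        rw [mul_comm, Complex.mul_conj, Complex.normSq_eq_norm_sq,
          Complex.norm_eq_one_of_pow_eq_one (n := e) (by rw [← irr_L_pow h, ← h.he, pow_card_eq_one', irr_L_one h.toCore]) (by omega)]
        norm_num
      have hgen : (μ : L → ℂ) (conjL L a g) = conj ((μ : L → ℂ) g) := by
        have h2 : (μ : L → ℂ) (conjL L a g) * (μ : L → ℂ) g = 1 := by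
          rw [hμg, show (μ : L → ℂ) (conjL L a g) = (ν : L → ℂ) (conjL L a g) * (ν : L → ℂ) (conjL L a g) from rfl]
          linear_combination hsq
        have hne : (μ : L → ℂ) g ≠ 0 := fun h0 => by rw [h0, mul_zero] at h2; exact zero_ne_one h2
        exact mul_right_cancel₀ hne (h2.trans hn1.symm)
      obtain ⟨i, rfl⟩ := (mem_powers_iff_mem_zpowers (x := g) (y := l)).mpr (hg l)
      rw [map_pow, irr_L_pow h, irr_L_pow h, hgen, map_pow]
    have hprod : ∀ q q' : X, q'.1.1 * q.1.1 ∈ L := by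
      intro q q'
      by_contra hmm
      obtain ⟨l, hl⟩ := hmove μ hμ1 hμ0 (⟨q'.1.1, (hmem q').1⟩ * ⟨q.1.1, (hmem q).1⟩) hmm
      exact hl (by rw [conjL_mul, hneg ⟨q.1.1, (hmem q).1⟩ (hmem q).2 (hinv _ q.2.1).1,
        hneg ⟨q'.1.1, (hmem q').1⟩ (hmem q').2 (hinv _ q'.2.1).1, Complex.conj_conj])
    rcases isEmpty_or_nonempty X with hX | ⟨⟨q₀⟩⟩
    · rw [Nat.card_of_isEmpty] at hcount
      have := Nat.mul_pos (e_pos h.toCore) (show 0 < n by omega)
      omega
    · have h1 : Nat.card X ≤ Nat.card L := Nat.card_le_card_of_injective (fun q : X => (⟨q₀.1.1 * q.1.1, hprod q q₀⟩ : L))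
        fun a b e' => hinjX (mul_left_cancel (congrArg (fun z : L => (z : G)) e' :))
      rw [hcount, h.he] at h1
      have := Nat.mul_le_mul_left e hn2
      omega

end Cfsg.Agent.BrauerFewSylow
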