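/-
Few Sylow subgroups: the recognition of the two-dimensional groups (namespace `Cfsg.Agent.BrauerFewSylow`).

Main results: `recognition_one` (`p + 1` Sylow subgroups), `recognition_two_le`, `exists_ctx`.
-/
import Cfsg.Agent.Lib.BrauerFewSylow.Structure
import Cfsg.Agent.Lib.PrimeDegreeTwoP.Main
import Cfsg.Agent.Lib.PSL2.Overgroups
import Cfsg.Agent.S0731
import Cfsg.Agent.S0995
import Cfsg.Agent.S1230

set_option autoImplicit false
set_option linter.unusedSectionVars false
set_option linter.style.haveILetI false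

namespace Cfsg.Agent.BrauerFewSylow

open Cfsg Cfsg.Agent.Blocks Cfsg.Agent.CyclicDefect

variable {G : Type*} [Group G] [Fintype G] {p : ℕ} [Fact p.Prime] {x : G} {L : Subgroup G}
  {e t n : ℕ} (h : Ctx p x L e t n)
include h

theorem two_le_e' : 2 ≤ e := by
  obtain ⟨M, hM⟩ := exists_isPModular (Fact.out : p.Prime)
  obtain ⟨d⟩ := exists_data h.toCore hM
  exact two_le_e h d

theorem commute_iff_mem {g : G} (hg : Commute x g) (hN : g ∈ Nr x) : g ∈ Subgroup.zpowers x := by
  refine (ell_eq_one_iff h.toCore ⟨g, hN⟩).mp ?_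
  obtain ⟨i, hi⟩ := exists_pw_mul h.toCore ⟨g, hN⟩
  haveI := h.hK
  set l := ell h.toCore ⟨g, hN⟩
  have hi' : g = pw x i * (l : G) := hi
  have hl : Commute x (l : G) := by
    rw [show (l : G) = (pw x i)⁻¹ * g by rw [hi']; group]
    exact (h.hS.commute_pw i (Commute.refl x)).symm.inv_right.mul_right hg
  exact congrArg Subtype.val (Subsingleton.elim (⟨l, mem_K.mpr hl⟩ : K x L) 1)

section One

variable (hn1 : n = 1)
include hn1

theorem not_all_trivial_t : 2 ≤ t := by
  classical
  by_contra hlt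
  have ht : t = 1 := by have := t_pos h.toCore; omega
  subst ht hn1
  obtain ⟨M, hM⟩ := exists_isPModular (Fact.out : p.Prime)
  obtain ⟨d⟩ := exists_data h.toCore hM
  have := Fintype.ofFinite (IrrCharacter G)
  obtain ⟨c⟩ := (inferInstance : Nonempty ((ZMod p)ˣ ⧸ U h.hS (oneK x L : K x L → ℂ)))
  have hte := h.hte
  rw [one_mul] at hte
  have hp3 := h.hp3
  have hodd : Odd p := h.hS.hp.odd_of_ne_two (by omega)
  obtain ⟨k, hk⟩ := hodd
  have hc := card_plus_minus h.toCore d
  have hr := rel_one h d c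
  set r := (Plus h.toCore d).card
  set s := (Minus h.toCore d).card
  rcases d.hε with h3 | h3
  · rw [h3, (exc_pos_spec h d h3 c).1] at hr
    have hs : (s : ℤ) = (p : ℤ) - 2 - r := by omega
    have hpp : ((p - 1 : ℕ) : ℤ) = (p : ℤ) - 1 := by omega
    have he : (e : ℤ) = (p : ℤ) - 1 := by omega
    rw [hpp, hs, he] at hr
    push_cast at hr
    have : (2 * (r : ℤ) - ((p : ℤ) - 2)) * (p : ℤ) = 0 := by linear_combination -hr
    rcases mul_eq_zero.mp this with h4 | h4 <;> omega
  · obtain ⟨-, -, hD⟩ := exc_neg_spec h d h3 c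
    rw [mul_one] at hD
    rw [h3, hD] at hr
    have hs : (s : ℤ) = (p : ℤ) - 2 - r := by omega
    have hpp : ((p - 1 : ℕ) : ℤ) = (p : ℤ) - 1 := by omega
    rw [hpp, hs] at hr
    push_cast at hr
    have : (2 * ((r : ℤ) + 1) - ((p : ℤ) - 2)) * (p : ℤ) = 0 := by linear_combination -hr
    rcases mul_eq_zero.mp this with h4 | h4 <;> omega

theorem semiregular {i : ZMod p} (hi : i ≠ 0) {q : G ⧸ Nr x} (hq : pw x i • q = q) : q = base x := by
  obtain ⟨g, rfl⟩ : ∃ g : G, g • base x = q :=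
    ⟨q.out, (show ((q.out * 1 : G) : G ⧸ Nr x) = q by rw [mul_one, QuotientGroup.out_eq'])⟩
  rw [← mul_smul, eq_comm, smul_base_eq, ← mul_assoc] at hq
  rw [smul_base_self]
  exact mem_Nr_of_conj_pw h hi hq

theorem card_omega : Nat.card (G ⧸ Nr x) = p + 1 := by
  rw [← Subgroup.index_eq_card, index_Nr h, hn1, one_mul, add_comm]

theorem regular {y z : G ⧸ Nr x} (hy : y ≠ base x) (hz : z ≠ base x) :
    ∃! u : Subgroup.zpowers x, (u : G) • y = z := by
  classical
  have hbase : ∀ u : Subgroup.zpowers x, (u : G) • base x = base x := fun u =>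
    smul_base_self.mpr (Subgroup.le_normalizer u.2)
  let F : Subgroup.zpowers x → {q : G ⧸ Nr x // q ≠ base x} := fun u =>
    ⟨(u : G) • y, fun e' => hy (by
      have := congrArg ((u : G)⁻¹ • ·) e'
      simp only [inv_smul_smul] at this
      rw [this, inv_smul_eq_iff, hbase])⟩
  have hinj : Function.Injective F := by
    intro u v huv
    have huv' : (u : G) • y = (v : G) • y := congrArg Subtype.val huv
    obtain ⟨i, hi⟩ := h.hS.exists_pw (mul_mem (inv_mem v.2) u.2)
    have hfix : pw x i • y = y := by rw [← hi, mul_smul, huv', inv_smul_smul]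
    by_cases hi0 : i = 0
    · rw [hi0, h.hS.pw_zero, inv_mul_eq_one] at hi
      exact Subtype.ext hi.symm
    · exact absurd (semiregular h hn1 hi0 hfix) hy
  haveI := Fintype.ofFinite (G ⧸ Nr x)
  have hcard : Nat.card (Subgroup.zpowers x) = Nat.card {q : G ⧸ Nr x // q ≠ base x} := by
    rw [Nat.card_zpowers, h.hS.hx, Nat.card_eq_fintype_card, Fintype.card_subtype_compl, Fintype.card_subtype_eq,
      ← Nat.card_eq_fintype_card, card_omega h hn1]
    omega
  have hbij : Function.Bijective F := (Nat.bijective_iff_injective_and_card F).mpr ⟨hinj, hcard⟩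
  obtain ⟨u, hu⟩ := hbij.2 ⟨z, hz⟩
  exact ⟨u, congrArg Subtype.val hu, fun v hv => hinj (Subtype.ext (hv.trans (congrArg Subtype.val hu).symm))⟩

theorem two_transitive : MulAction.IsMultiplyPretransitive G (G ⧸ Nr x) 2 := by
  rw [MulAction.is_two_pretransitive_iff]
  intro a b c d hab hcd
  obtain ⟨g₁, hg₁⟩ := MulAction.exists_smul_eq G a (base x)
  obtain ⟨g₂, hg₂⟩ := MulAction.exists_smul_eq G c (base x)
  have hy : g₁ • b ≠ base x := fun e' => hab (smul_left_cancel g₁ (hg₁.trans e'.symm))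
  have hz : g₂ • d ≠ base x := fun e' => hcd (smul_left_cancel g₂ (hg₂.trans e'.symm))
  obtain ⟨u, hu, -⟩ := regular h hn1 hy hz
  refine ⟨g₂⁻¹ * (u : G) * g₁, ?_, ?_⟩
  · rw [mul_smul, mul_smul, hg₁, smul_base_self.mpr (Subgroup.le_normalizer u.2), ← hg₂, inv_smul_smul]
  · rw [mul_smul, mul_smul, hu, inv_smul_smul]

theorem eq_one_of_three {g : G} {a b c : G ⧸ Nr x} (hab : a ≠ b) (hbc : b ≠ c) (hac : a ≠ c)
    (ha : g • a = a) (hb : g • b = b) (hc : g • c = c) : g = 1 := by
  obtain ⟨g₁, hg₁⟩ := MulAction.exists_smul_eq G a (base x)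
  have key : ∀ q : G ⧸ Nr x, g • q = q → (g₁ * g * g₁⁻¹) • g₁ • q = g₁ • q := fun q hq => by
    rw [mul_smul, mul_smul, inv_smul_smul, hq]
  have hN : g₁ * g * g₁⁻¹ ∈ Nr x := by
    rw [← smul_base_self, ← hg₁]
    exact key a ha
  set b' := g₁ • b with hb'def
  set c' := g₁ • c with hc'def
  have hb' : b' ≠ base x := fun e' => hab (smul_left_cancel g₁ (hg₁.trans e'.symm))
  have hc' : c' ≠ base x := fun e' => hac (smul_left_cancel g₁ (hg₁.trans e'.symm))
  have hbc' : b' ≠ c' := fun e' => hbc (smul_left_cancel g₁ e')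
  suffices hm1 : g₁ * g * g₁⁻¹ = 1 by
    rwa [mul_inv_eq_one, mul_eq_left] at hm1
  by_cases h1 : ell h.toCore ⟨_, hN⟩ = 1
  · obtain ⟨i, hi⟩ := h.hS.exists_pw ((ell_eq_one_iff h.toCore _).mp h1)
    have hi' : g₁ * g * g₁⁻¹ = pw x i := hi
    by_contra hne
    have hi0 : i ≠ 0 := fun e' => hne (by rw [hi', e', h.hS.pw_zero])
    exact hb' (semiregular h hn1 hi0 (hi' ▸ key b hb))
  exfalso
  obtain ⟨j, hj⟩ := exists_conj_eq h.toCore (m := ⟨_, hN⟩) h1
  set l := ell h.toCore ⟨g₁ * g * g₁⁻¹, hN⟩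
  have hj' : g₁ * g * g₁⁻¹ = pw x j * (l : G) * (pw x j)⁻¹ := hj
  have hfix : ∀ q : G ⧸ Nr x, (g₁ * g * g₁⁻¹) • q = q → (l : G) • (pw x j)⁻¹ • q = (pw x j)⁻¹ • q := by
    intro q hq
    rw [hj', mul_smul, mul_smul, smul_eq_iff_eq_inv_smul] at hq
    exact hq
  have hne : ∀ q : G ⧸ Nr x, q ≠ base x → (pw x j)⁻¹ • q ≠ base x := fun q hq e' => hq (by
    rw [inv_smul_eq_iff, smul_base_self.mpr (Subgroup.le_normalizer (h.hS.pw_mem j))] at e'
    exact e')
  obtain ⟨u, hu, -⟩ := regular h hn1 (hne b' hb') (hne c' hc')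
  obtain ⟨i, hi⟩ := h.hS.exists_pw u.2
  rw [hi] at hu
  have h2 := fixed_unique h h1 (hfix b' (key b hb)) (i := i) (by rw [hu]; exact hfix c' (key c hc))
  exact hbc' (smul_left_cancel _ (h2.symm.trans hu))

theorem faithful : FaithfulSMul G (G ⧸ Nr x) := by
  refine ⟨fun {g g'} hgg => ?_⟩
  have hp3 := h.hp3
  have h3 : 3 ≤ Nat.card (G ⧸ Nr x) := by rw [card_omega h hn1]; omega
  haveI := Fintype.ofFinite (G ⧸ Nr x)
  rw [Nat.card_eq_fintype_card] at h3
  obtain ⟨a, b, c, hab, hac, hbc⟩ := Fintype.two_lt_card_iff.mp h3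
  have hfix : ∀ q : G ⧸ Nr x, (g'⁻¹ * g) • q = q := fun q => by rw [mul_smul, hgg, inv_smul_smul]
  have := eq_one_of_three h hn1 hab hbc hac (hfix a) (hfix b) (hfix c)
  exact (inv_mul_eq_one.mp this).symm

theorem exists_two_fixed : ∃ g : G, g ≠ 1 ∧ ∃ a b : G ⧸ Nr x, a ≠ b ∧ g • a = a ∧ g • b = b := by
  haveI : Nontrivial L := Finite.one_lt_card_iff_nontrivial.mp (by rw [h.he]; exact two_le_e' h)
  obtain ⟨l, hl⟩ := exists_ne (1 : L)
  haveI : Nontrivial (G ⧸ Nr x) := Finite.one_lt_card_iff_nontrivial.mp (by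
    rw [card_omega h hn1]; have := h.hp3; omega)
  obtain ⟨b, hb⟩ := exists_ne (base x)
  have hlb : (l : G) • b ≠ base x := fun e' => hb (by
    rw [smul_eq_iff_eq_inv_smul] at e'
    rw [e', smul_base_self.mpr (inv_mem (h.hS.hL l.2))])
  obtain ⟨u, hu, -⟩ := regular h hn1 hb hlb
  refine ⟨(u : G)⁻¹ * (l : G), fun e' => hl (Subtype.ext ?_), base x, b, hb.symm, ?_, ?_⟩
  · exact eq_one_of_mem h.toCore l.2 (inv_mul_eq_one.mp e' ▸ u.2)
  · exact smul_base_self.mpr (mul_mem (inv_mem (Subgroup.le_normalizer u.2)) (h.hS.hL l.2))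
  · rw [mul_smul, ← hu, inv_smul_smul]

theorem no_regular_normal (hperf : commutator G = ⊤) (N : Subgroup G) (hN : N.Normal)
    (ht : MulAction.IsPretransitive N (G ⧸ Nr x)) : ∃ a : G ⧸ Nr x, MulAction.stabilizer N a ≠ ⊥ := by
  classical
  by_contra hcon
  push Not at hcon
  have hcardN : Nat.card N = p + 1 := by
    haveI := Fintype.ofFinite N
    haveI := Fintype.ofFinite (MulAction.orbit N (base x))
    haveI := Fintype.ofFinite (MulAction.stabilizer N (base x))
    have h1 := MulAction.card_orbit_mul_card_stabilizer_eq_card_group N (base x)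
    simp only [← Nat.card_eq_fintype_card] at h1
    rw [← h1, hcon, Subgroup.card_bot, mul_one, MulAction.orbit_eq_univ, Nat.card_congr (Equiv.Set.univ _),
      card_omega h hn1]
  have hinj : Function.Injective ((QuotientGroup.mk' N).comp (Nr x).subtype) := by
    rw [← MonoidHom.ker_eq_bot_iff, eq_bot_iff]
    intro m hm
    rw [MonoidHom.mem_ker, MonoidHom.comp_apply, QuotientGroup.mk'_apply, QuotientGroup.eq_one_iff] at hm
    have : (⟨(m : G), hm⟩ : N) ∈ MulAction.stabilizer N (base x) := by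
      rw [MulAction.mem_stabilizer_iff]
      exact smul_base_self.mpr m.2
    rw [hcon, Subgroup.mem_bot] at this
    rw [Subgroup.mem_bot]
    exact Subtype.ext (congrArg (fun z : N => (z : G)) this)
  have hcardQ : Nat.card (G ⧸ N) = Nat.card (Nr x) := by
    have h1 := N.card_mul_index
    rw [hcardN, h.hcard, hn1, one_mul, Subgroup.index_eq_card] at h1
    rw [card_Nr h.toCore]
    refine Nat.eq_of_mul_eq_mul_left (show 0 < p + 1 by omega) ?_
    rw [h1]
    ring
  let E : Nr x ≃* G ⧸ N := MulEquiv.ofBijective _ ((Nat.bijective_iff_injective_and_card _).mpr ⟨hinj, hcardQ.symm⟩)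
  let φ : G →* L := (ell h.toCore).comp (E.symm.toMonoidHom.comp (QuotientGroup.mk' N))
  have hφ : ∀ g, φ g = 1 := by
    intro g
    have h1 : (⊤ : Subgroup G) ≤ φ.ker := by
      rw [← hperf, commutator_def, Subgroup.commutator_le]
      intro a _ b _
      rw [MonoidHom.mem_ker, commutatorElement_def, map_mul, map_mul, map_mul, map_inv, map_inv,
        L_comm h.toCore (φ a) (φ b), mul_inv_cancel_right, mul_inv_cancel]
    exact h1 (Subgroup.mem_top g)
  haveI : Nontrivial L := Finite.one_lt_card_iff_nontrivial.mp (by rw [h.he]; exact two_le_e' h)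
  obtain ⟨l, hl⟩ := exists_ne (1 : L)
  obtain ⟨g, hg⟩ := QuotientGroup.mk'_surjective N (E (Subgroup.inclusion h.hS.hL l))
  have := hφ g
  rw [show φ g = ell h.toCore (E.symm (QuotientGroup.mk' N g)) from rfl, hg, E.symm_apply_apply, ell_coe h.toCore] at this
  exact hl this

theorem recognition_one (hperf : commutator G = ⊤) :
    ∃ (F : Type) (_ : Field F) (_ : Fintype F), Fintype.card F = p ∧ 3 < p ∧
      Nonempty (G ≃* Matrix.ProjectiveSpecialLinearGroup (Fin 2) F) := by
  classical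
  haveI := Fintype.ofFinite (G ⧸ Nr x)
  have hstab : MulAction.stabilizer G (base x) = Nr x := by
    ext g
    rw [MulAction.mem_stabilizer_iff, smul_base_self]
  have hZ : Cfsg.IsZassenhausGroup G (G ⧸ Nr x) :=
    ⟨faithful h hn1, two_transitive h hn1,
      fun g a b c hab hbc hac ha hb hc => eq_one_of_three h hn1 hab hbc hac ha hb hc,
      exists_two_fixed h hn1, no_regular_normal h hn1 hperf⟩
  have hp3 := h.hp3
  have hte := h.hte
  have ht2 := not_all_trivial_t h hn1
  have he2 := two_le_e' h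
  have h4 : 4 ≤ t * e := Nat.mul_le_mul ht2 he2
  rcases Cfsg.Agent.S0731.result hZ (base x) (Subgroup.zpowers x) (by rw [hstab]; exact Subgroup.le_normalizer)
    (by rw [hstab]; exact Subgroup.normal_in_normalizer) inferInstance
    (fun y z hy hz => regular h hn1 hy hz) with ⟨htr, hst⟩ | ⟨F, hF, hF', hchar, ⟨ψ⟩⟩
  · exfalso
    haveI := htr
    have h3 : 3 ≤ Fintype.card (G ⧸ Nr x) := by
      rw [← Nat.card_eq_fintype_card, card_omega h hn1]; omega
    obtain ⟨v⟩ : Nonempty (Fin 3 ↪ G ⧸ Nr x) :=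
      Function.Embedding.nonempty_of_card_le (by rwa [Fintype.card_fin])
    haveI := Fintype.ofFinite (MulAction.orbit G v)
    haveI := Fintype.ofFinite (MulAction.stabilizer G v)
    haveI : MulAction.IsPretransitive G (Fin 3 ↪ G ⧸ Nr x) := htr
    have h1 := MulAction.card_orbit_mul_card_stabilizer_eq_card_group G v
    simp only [← Nat.card_eq_fintype_card] at h1
    rw [hst, Subgroup.card_bot, mul_one, MulAction.orbit_eq_univ, Nat.card_congr (Equiv.Set.univ _),
      Nat.card_eq_fintype_card, Fintype.card_embedding_eq, Fintype.card_fin, ← Nat.card_eq_fintype_card,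
      card_omega h hn1, h.hcard, hn1, one_mul] at h1
    have h2 : (p + 1).descFactorial 3 = (p - 1) * p * (p + 1) := by
      simp [Nat.descFactorial_succ]
      ring
    rw [h2] at h1
    have h5 : p - 1 = e := Nat.eq_of_mul_eq_mul_right (h.hS.hp.pos) (Nat.eq_of_mul_eq_mul_right (show 0 < p + 1 by omega)
      (h1.trans (by ring)))
    nlinarith
  · refine ⟨F, hF, hF', ?_, by omega, ⟨ψ⟩⟩
    have hodd := FiniteField.odd_card_of_char_ne_two hchar
    have hq1 : 1 < Fintype.card F := Fintype.one_lt_card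
    have hcard := PSL2.card_psl_mul (F := F)
    rw [← Nat.card_congr ψ.toEquiv, h.hcard, hn1, one_mul, Nat.card_eq_fintype_card] at hcard
    set q := Fintype.card F with hq
    rw [Nat.gcd_eq_left (show 2 ∣ q - 1 by omega)] at hcard
    obtain ⟨k, hk⟩ : ∃ k, q = k + 1 := ⟨q - 1, by omega⟩
    obtain ⟨r, hr⟩ : ∃ r, p = r + 1 := ⟨p - 1, by omega⟩
    rw [hk, Nat.add_sub_cancel] at hcard
    have he : 2 * e ≤ r := by
      have := Nat.mul_le_mul_right e ht2
      omega
    have hle : q ≤ p := by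
      by_contra hlt
      have h5 : (k + 1) * ((k + 1 + 1) * k) ≤ r * (r + 1) * (r + 1 + 1) := by
        rw [← hcard, hr, ← mul_assoc, ← mul_assoc]
        nlinarith [Nat.mul_le_mul_right ((r + 1) * (r + 1 + 1)) he]
      have h6 : (r + 1) * ((r + 2) * (r + 1 + 1)) ≤ (k + 1) * ((k + 1 + 1) * k) := by
        refine le_trans ?_ (Nat.mul_le_mul (show r + 2 ≤ k + 1 by omega) (Nat.mul_le_mul (show r + 3 ≤ k + 2 by omega) (show r + 1 ≤ k by omega)))
        nlinarith
      nlinarith
    have hdvd : p ∣ q * ((q + 1) * (q - 1)) := by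
      rw [hk, Nat.add_sub_cancel, ← hcard]
      exact Dvd.intro (2 * e * (1 + p)) (by ring)
    rcases h.hS.hp.dvd_mul.mp hdvd with h5 | h5
    · exact le_antisymm hle (Nat.le_of_dvd (by omega) h5)
    · obtain ⟨m', hm'⟩ := h.hS.hp.odd_of_ne_two (by omega)
      rcases h.hS.hp.dvd_mul.mp h5 with h6 | h6 <;>
      · have := Nat.le_of_dvd (by omega) h6
        omega

end One

/-- More than `p + 1` Sylow subgroups lead to `SL(2, 2 ^ m)`. -/
theorem recognition_two_le (hn2 : 2 ≤ n) :
    ∃ (m : ℕ) (F : Type) (_ : Field F) (_ : Fintype F), Fintype.card F = 2 ^ m ∧ p = 2 ^ m + 1 ∧ 3 < p ∧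
      Nonempty (G ≃* Matrix.ProjectiveSpecialLinearGroup (Fin 2) F) := by
  classical
  obtain ⟨M, hM⟩ := exists_isPModular (Fact.out : p.Prime)
  obtain ⟨d⟩ := exists_data h.toCore hM
  haveI := Fintype.ofFinite (IrrCharacter G)
  haveI := Fintype.ofFinite (IrrCharacter L)
  obtain ⟨he, hnt, j, hj, hcC, hCinv⟩ := structure_of_two_le h d hn2
  set C := Subgroup.centralizer ({(j : G)} : Set G) with hCdef
  have hsq : ∀ g ∈ C, g ^ 2 = 1 := fun g hg => by
    by_cases h1 : g = 1
    · rw [h1, one_pow]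
    · rw [← (hCinv g hg h1).1, pow_orderOf_eq_one]
  have hC2 : IsPGroup 2 C := fun g => ⟨1, Subtype.ext (hsq g.1 g.2)⟩
  have hte := h.hte
  rw [he] at hte
  have hp3 := h.hp3
  have hidx : C.index = p * (2 * t - 1) := by
    have h1 := C.card_mul_index
    rw [hcC, h.hcard, he] at h1
    refine Nat.eq_of_mul_eq_mul_left (show 0 < 2 * t by omega) (h1.trans ?_)
    obtain ⟨s, rfl⟩ : ∃ s, t = s + 1 := ⟨t - 1, by omega⟩
    obtain rfl : n = s := by omega
    obtain rfl : p = 2 * n + 3 := by omega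
    rw [show 2 * (n + 1) - 1 = 2 * n + 1 by omega]
    ring
  have hoddp : Odd p := h.hS.hp.odd_of_ne_two (by omega)
  have hidx2 : ¬ 2 ∣ C.index := by
    rw [hidx, Nat.prime_two.dvd_mul]
    obtain ⟨k, hk⟩ := hoddp
    omega
  set T : Sylow 2 G := hC2.toSylow hidx2
  have hT : (T : Subgroup G) = C := IsPGroup.toSylow_coe _ _
  have hconj : ∀ u : G, orderOf u = 2 → IsConj (j : G) u := by
    intro u hu
    obtain ⟨Q, hQ⟩ := (IsPGroup.of_card (n := 1) (by rw [Nat.card_zpowers, hu, pow_one]) :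
      IsPGroup 2 (Subgroup.zpowers u)).exists_le_sylow
    obtain ⟨g, hg⟩ := MulAction.exists_smul_eq G T Q
    have hmem : g⁻¹ * u * g ∈ C := by
      have h1 : u ∈ ((g • T : Sylow 2 G) : Subgroup G) := by rw [hg]; exact hQ (Subgroup.mem_zpowers u)
      rw [Sylow.coe_subgroup_smul, Subgroup.mem_pointwise_smul_iff_inv_smul_mem, ← map_inv, MulAut.smul_def,
        MulAut.conj_apply, inv_inv] at h1
      rw [← hT]
      exact h1
    have hne : g⁻¹ * u * g ≠ 1 := fun e' => by
      have : u = g * (g⁻¹ * u * g) * g⁻¹ := by group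
      rw [e', mul_one, mul_inv_cancel] at this
      rw [this, orderOf_one] at hu
      omega
    exact (hCinv _ hmem hne).2.trans (isConj_iff.mpr ⟨g, by group⟩)
  have hcent : ∀ u : G, orderOf u = 2 → IsMulCommutative (Subgroup.centralizer ({u} : Set G)) ∧
      ∀ c ∈ Subgroup.centralizer ({u} : Set G), c ^ 2 = 1 := by
    intro u hu
    obtain ⟨g, hg⟩ := isConj_iff.mp (hconj u hu)
    have hmem : ∀ c ∈ Subgroup.centralizer ({u} : Set G), c ^ 2 = 1 := by
      intro c hc
      rw [Subgroup.mem_centralizer_singleton_iff, ← hg] at hc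
      have h1 : g⁻¹ * c * g ∈ C := by
        rw [hCdef, Subgroup.mem_centralizer_singleton_iff]
        calc g⁻¹ * c * g * (j : G) = g⁻¹ * (c * (g * (j : G) * g⁻¹)) * g := by group
          _ = g⁻¹ * (g * (j : G) * g⁻¹ * c) * g := by rw [hc]
          _ = (j : G) * (g⁻¹ * c * g) := by group
      have h2 := hsq _ h1
      rw [show g⁻¹ * c * g = g⁻¹ * c * g⁻¹⁻¹ by rw [inv_inv], conj_pow, mul_inv_eq_one, mul_eq_left] at h2
      exact h2
    refine ⟨⟨⟨fun a b => Subtype.ext ?_⟩⟩, hmem⟩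
    have ha := inv_eq_of_mul_eq_one_right (show (a : G) * a = 1 by rw [← pow_two]; exact hmem a a.2)
    have hb := inv_eq_of_mul_eq_one_right (show (b : G) * b = 1 by rw [← pow_two]; exact hmem b b.2)
    have hab := inv_eq_of_mul_eq_one_right
      (show ((a : G) * b) * ((a : G) * b) = 1 by rw [← pow_two]; exact hmem _ (mul_mem a.2 b.2))
    rw [mul_inv_rev, ha, hb] at hab
    exact hab.symm
  have ht3 : 3 ≤ t := by omega
  have hnc : ¬ IsCyclic (T : Subgroup G) := by
    intro hcyc
    rw [hT] at hcyc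
    obtain ⟨g, hg⟩ := hcyc.exists_generator
    have h1 := orderOf_eq_card_of_forall_mem_zpowers hg
    rw [hcC] at h1
    have h2 : g ^ 2 = 1 := Subtype.ext (hsq g.1 g.2)
    have h3 := Nat.le_of_dvd two_pos (orderOf_dvd_of_pow_eq_one h2)
    omega
  have hnn : ¬ (T : Subgroup G).Normal := by
    intro hN
    rw [hT] at hN
    have hjC : (j : G) ∈ C := Subgroup.mem_centralizer_singleton_iff.mpr rfl
    have h1 : x * (j : G) * x⁻¹ * (j : G)⁻¹ ∈ C := mul_mem (hN.conj_mem _ hjC x) (inv_mem hjC)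
    have h2 : x * (j : G) * x⁻¹ * (j : G)⁻¹ ∈ Subgroup.zpowers x := by
      rw [show x * (j : G) * x⁻¹ * (j : G)⁻¹ = x * ((j : G) * x⁻¹ * (j : G)⁻¹) by group]
      exact mul_mem (Subgroup.mem_zpowers x)
        ((Subgroup.mem_normalizer_iff.mp (h.hS.hL j.2) _).mp (inv_mem (Subgroup.mem_zpowers x)))
    have h3 : x * (j : G) * x⁻¹ * (j : G)⁻¹ = 1 := by
      by_contra hne
      have ho := (hCinv _ h1 hne).1
      have hd := orderOf_dvd_natCard (⟨_, h2⟩ : Subgroup.zpowers x)
      rw [← Subgroup.orderOf_coe, Nat.card_zpowers, h.hS.hx, ho] at hd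
      obtain ⟨k, hk⟩ := hoddp
      omega
    rw [mul_inv_eq_one, mul_inv_eq_iff_eq_mul] at h3
    have h4 := commute_iff_mem h h3 (h.hS.hL j.2)
    rw [eq_one_of_mem h.toCore j.2 h4, orderOf_one] at hj
    omega
  obtain ⟨F, hF, hF', hcardF, hψ⟩ := Cfsg.Agent.S1230.result T hnc hnn hcent
  obtain ⟨m, hm⟩ := hC2.exists_card_eq
  refine ⟨m, F, hF, hF', ?_, by omega, by omega, hψ⟩
  rw [hcardF, ← hm]
  exact Nat.card_congr (MulEquiv.subgroupCongr hT).toEquiv

omit h in
theorem hom_trivial {A : Type*} [CommGroup A] (hperf : commutator G = ⊤) (f : G →* A) (g : G) : f g = 1 :=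
  MonoidHom.mem_ker.mp (Abelianization.commutator_subset_ker f (hperf ▸ Subgroup.mem_top g))

omit h in
/-- The hypotheses of the theorem give a context. -/
theorem exists_ctx (hperf : commutator G = ⊤) (hz : orderOf x = p)
    (hC : Subgroup.centralizer ({x} : Set G) = Subgroup.zpowers x)
    (hn : 2 * Nat.card (Sylow p G) < (p + 1) * (p + 2)) :
    ∃ (L : Subgroup G) (e t n : ℕ), Ctx p x L e t n := by
  classical
  have hp : p.Prime := Fact.out
  obtain ⟨n, t', -, ht', hcs, hG⟩ := Cfsg.Agent.S0995.result hperf p x hz hC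
  have hndvd : ¬ p ∣ 1 + n * p := fun hd => hp.not_dvd_one ((Nat.dvd_add_left (Dvd.intro_left n rfl)).mp hd)
  have hsq : ¬ p ^ 2 ∣ Nat.card G := by
    intro hd
    have h1 : p ^ 2 ∣ (p - 1) * p * (1 + n * p) := hG ▸ hd.mul_right t'
    rw [pow_two, mul_comm (p - 1) p, mul_assoc] at h1
    rcases hp.dvd_mul.mp (Nat.dvd_of_mul_dvd_mul_left hp.pos h1) with h2 | h2
    · have := Nat.le_of_dvd (Nat.sub_pos_of_lt hp.one_lt) h2
      have := hp.pos
      omega
    · exact hndvd h2
  obtain ⟨L, hS⟩ := CyclicDefect.exists_setting hp hz hsq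
  have hK : Subsingleton (K x L) := by
    have h1 : ∀ k : K x L, k = 1 := fun k => by
      have hk : ((k : L) : G) ∈ Subgroup.zpowers x := by
        rw [← hC]
        exact Subgroup.mem_subgroupOf.mp k.2
      have h1 := orderOf_dvd_natCard (k : L)
      have h2 := orderOf_dvd_natCard (⟨_, hk⟩ : Subgroup.zpowers x)
      rw [← Subgroup.orderOf_coe] at h1
      rw [← Subgroup.orderOf_coe, Nat.card_zpowers, hz] at h2
      exact Subtype.ext (Subtype.ext (orderOf_eq_one_iff.mp (Nat.eq_one_of_dvd_coprimes hS.coprime_L h2 h1)))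
    exact ⟨fun a b => (h1 a).trans (h1 b).symm⟩
  have hPc : Nat.card (Subgroup.zpowers x) = p ^ (Nat.card G).factorization p := by
    rw [Nat.card_zpowers, hz]
    have h1 : 1 ≤ (Nat.card G).factorization p :=
      hp.factorization_pos_of_dvd (Nat.card_pos.ne') (hz ▸ orderOf_dvd_natCard x)
    have h2 : ¬ 2 ≤ (Nat.card G).factorization p := fun h2 =>
      hsq ((hp.pow_dvd_iff_le_factorization Nat.card_pos.ne').mpr h2)
    rw [show (Nat.card G).factorization p = 1 by omega, pow_one]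
  let P : Sylow p G := Sylow.ofCard (Subgroup.zpowers x) hPc
  have hP : (P : Subgroup G) = Subgroup.zpowers x := Sylow.coe_ofCard _ _
  have hcardG : Nat.card G = Nat.card L * p * (1 + n * p) := by
    rw [← hcs, Sylow.card_eq_index_normalizer P, ← (Subgroup.normalizer (Subgroup.zpowers x : Set G)).card_mul_index,
      hS.card_normalizer, mul_comm p]
    show _ = _ * (Subgroup.normalizer ((P : Subgroup G) : Set G)).index
    rw [hP]
  have halpha : Function.Injective (CyclicDefect.alpha hS) := by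
    haveI := hK
    rw [← MonoidHom.ker_eq_bot_iff, CyclicDefect.ker_alpha hS]
    exact Subgroup.eq_bot_of_subsingleton _
  have hedvd : Nat.card L ∣ p - 1 := by
    have := Subgroup.card_dvd_of_injective _ halpha
    rwa [Nat.card_eq_fintype_card (α := (ZMod p)ˣ), ZMod.card_units] at this
  have hL1 : Nat.card L ≠ 1 := by
    intro h1
    have hN : Subgroup.normalizer ((P : Subgroup G) : Set G) ≤ (P : Subgroup G) := by
      rw [hP]
      intro m hm
      obtain ⟨u, hu, l, hl, rfl⟩ := hS.hgen m hm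
      rw [(Subgroup.eq_bot_of_card_eq L h1 ▸ hl : l ∈ (⊥ : Subgroup G)) |> Subgroup.mem_bot.mp, mul_one]
      exact hu
    haveI : IsMulCommutative (P : Subgroup G) := by rw [hP]; infer_instance
    obtain ⟨Q, hQn, hQ⟩ := PrimeDegreeTwoP.exists_normal_complement P inferInstance hN
    haveI := hQn
    let E := hQ.symm.QuotientMulEquiv
    have hQtop : ∀ g : G, g ∈ Q := fun g => by
      have hker : commutator G ≤ Q := by
        rw [commutator_def, Subgroup.commutator_le]
        intro a _ b _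
        rw [← QuotientGroup.eq_one_iff, ← MulEquiv.map_eq_one_iff E, commutatorElement_def,
          QuotientGroup.mk_mul, QuotientGroup.mk_mul, QuotientGroup.mk_mul, QuotientGroup.mk_inv, QuotientGroup.mk_inv,
          map_mul, map_mul, map_mul, map_inv, map_inv]
        rw [mul_comm' (E (a : G ⧸ Q)) (E (b : G ⧸ Q)), mul_inv_cancel_right, mul_inv_cancel]
      exact hker (hperf ▸ Subgroup.mem_top g)
    have h3 := hQ.card_mul_card
    rw [Subgroup.eq_top_iff' Q |>.mpr hQtop, Subgroup.card_top, hP, Nat.card_zpowers, hz] at h3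
    have := hp.one_lt
    have := Nat.card_pos (α := G)
    nlinarith
  have hn0 : n ≠ 0 := by
    intro h0
    have hNt : Subgroup.normalizer (Subgroup.zpowers x : Set G) = ⊤ := by
      refine Subgroup.eq_top_of_card_eq _ ?_
      rw [hS.card_normalizer, hcardG, h0, zero_mul, add_zero, mul_one, mul_comm]
    haveI : (Subgroup.zpowers x).Normal := Subgroup.normalizer_eq_top_iff.mp hNt
    let f : G →* (ZMod (Nat.card (Subgroup.zpowers x)))ˣ :=
      (IsCyclic.mulAutMulEquiv (Subgroup.zpowers x)).toMonoidHom.comp MulAut.conjNormal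
    have hall : ∀ g : G, g ∈ Subgroup.zpowers x := fun g => by
      have h1 := hom_trivial hperf f g
      have h2 : (MulAut.conjNormal g : MulAut (Subgroup.zpowers x)) = 1 := by
        have h3 : (IsCyclic.mulAutMulEquiv (Subgroup.zpowers x)) (MulAut.conjNormal g) = 1 := h1
        rwa [MulEquiv.map_eq_one_iff] at h3
      have h4 := congrArg Subtype.val (DFunLike.congr_fun h2 ⟨x, Subgroup.mem_zpowers x⟩)
      rw [MulAut.conjNormal_apply, MulAut.one_apply] at h4
      rw [← hC, Subgroup.mem_centralizer_singleton_iff]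
      exact mul_inv_eq_iff_eq_mul.mp h4
    have hbot : commutator G ≤ ⊥ := by
      rw [commutator_def, Subgroup.commutator_le]
      intro a _ b _
      obtain ⟨i, rfl⟩ := Subgroup.mem_zpowers_iff.mp (hall a)
      obtain ⟨k, rfl⟩ := Subgroup.mem_zpowers_iff.mp (hall b)
      rw [Subgroup.mem_bot, commutatorElement_eq_one_iff_mul_comm]
      exact ((Commute.refl x).zpow_zpow i k).eq
    have h5 : x ∈ (⊥ : Subgroup G) := hbot (hperf ▸ Subgroup.mem_top x)
    rw [Subgroup.mem_bot] at h5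
    rw [h5, orderOf_one] at hz
    exact hp.ne_one hz.symm
  have hp3 : 3 ≤ p := by
    by_contra hlt
    have hp2 : p = 2 := by have := hp.two_le; omega
    rw [hp2] at hedvd
    exact hL1 (Nat.dvd_one.mp hedvd)
  obtain ⟨t, ht⟩ := hedvd
  refine ⟨L, Nat.card L, t, n, ⟨hS, hK, hp3, rfl, by rw [ht, mul_comm], ?_⟩, hcardG, ?_, Nat.pos_of_ne_zero hn0⟩
  rotate_left
  · obtain ⟨k, hk⟩ := hp.odd_of_ne_two (by omega)
    by_contra hlt
    have h1 : 2 * (1 + n * p) ≥ (p + 1) * (p + 2) := by
      have : p * (p + 3) ≤ p * (2 * n) := Nat.mul_le_mul_left p (by omega)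
      nlinarith
    rw [hcs] at hn
    omega
  · intro χ hχ
    have h1 : (χ : G → ℂ) 1 = 1 := by rw [← charDegree_cast, hχ, Nat.cast_one]
    obtain ⟨l, hl⟩ := Char.exists_hom_of_degree_one (Char.IsIrrCharacter.isCharacter χ.2) h1
    refine Subtype.ext (funext fun g => ?_)
    have h2 := congrArg Units.val (hom_trivial hperf l.toHomUnits g)
    rw [MonoidHom.coe_toHomUnits] at h2
    show (χ : G → ℂ) g = 1
    rw [← hl]
    exact h2

end Cfsg.Agent.BrauerFewSylow
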